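import Groth.Agent.TorusQI.Geom
import Groth.Agent.GrpSchLib.MultTypeBC
import Groth.Agent.GrpSchLib.PerfectSmooth
import Groth.Agent.EtFound.Descent
import Mathlib.RingTheory.Finiteness.Basic

/-! Tori over a field are affine, smooth and connected. -/

set_option backward.isDefEq.respectTransparency false
set_option backward.isDefEq.respectTransparency.types false
set_option linter.style.haveILetI false

universe u

open CategoryTheory Limits AlgebraicGeometry MonoidalCategory CartesianMonoidalCategory MonObj GrpObj

namespace Groth.Agent.AGFLib.QuasiComp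

open GrpSchLib.AffineHopf GrpSchLib.MultTypeBC

theorem isDomain_laurent (K : Type u) [Field K] (r : ℕ) :
    IsDomain (MonoidAlgebra K (Multiplicative (Fin r → ℤ))) :=
  NoZeroDivisors.to_isDomain _

/-- Tori over a field are affine, smooth and connected. -/
theorem torus_props {k : Type u} [Field k] {T : Over (Spec (CommRingCat.of k))} [GrpObj T] (hT : Red.IsTorus T) :
    IsAffine T.left ∧ Smooth T.hom ∧ ConnectedSpace T.left := by
  let K := AlgebraicClosure k
  let φ := Spec.map (CommRingCat.ofHom (algebraMap k K))
  obtain ⟨r, ⟨es⟩⟩ := TorusQI.exists_split_geom hT φ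
  obtain ⟨d⟩ := nonempty_DS_iso K (Fin r → ℤ)
  let A := MonoidAlgebra K (Multiplicative (Fin r → ℤ))
  let e : Red.bc φ T ≅ sp K A := (Grp.forget _).mapIso (es.trans d.symm)
  haveI : IsIso e.hom.left := ((Over.forget _).mapIso e).isIso_hom
  haveI : IsIso e.inv.left := ((Over.forget _).mapIso e).isIso_inv
  let B : Over (Spec (CommRingCat.of K)) := Red.bc φ T
  haveI : IsAffine (sp K A).left := isAffine_Spec _
  haveI : IsAffine (pullback T.hom φ) := IsAffine.of_isIso e.hom.left
  haveI := isDomain_laurent K r
  haveI : IsIntegral (sp K A).left := inferInstanceAs (IsIntegral (Spec _))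
  haveI : ConnectedSpace B.left := e.inv.left.surjective.connectedSpace e.inv.left.continuous
  haveI : IsReduced B.left := isReduced_of_isOpenImmersion e.hom.left
  haveI : Algebra.FiniteType K A := by
    haveI : AddGroup.FG (Fin r → ℤ) := Module.Finite.iff_addGroup_fg.1 inferInstance
    infer_instance
  haveI : LocallyOfFiniteType B.hom := by
    haveI : LocallyOfFiniteType (sp K A).hom :=
      (HasRingHomProperty.Spec_iff (P := @LocallyOfFiniteType)).mpr
        (RingHom.finiteType_algebraMap.mpr inferInstance)
    show LocallyOfFiniteType (Red.bc φ T).hom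
    rw [← Over.w e.hom]
    infer_instance
  have hs : Smooth (pullback.snd T.hom φ) := GrpSchLib.smooth_of_perfectField_of_isReduced B
  haveI : Surjective φ := ⟨fun x => ⟨(IsLocalRing.closedPoint K : Spec (CommRingCat.of K)), Subsingleton.elim _ _⟩⟩
  haveI : Flat φ := by
    rw [Flat.SpecMap_iff]
    show (algebraMap k K).Flat
    rw [RingHom.flat_algebraMap_iff]
    infer_instance
  have hA : IsAffineHom (pullback.snd T.hom φ) := isAffineHom_of_isAffine (pullback.snd T.hom φ)
  haveI := EtFound.fpqc_isAffineHom.{u}
  haveI : IsAffineHom T.hom := MorphismProperty.of_pullback_snd_of_descendsAlong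
    (Q := (@Surjective ⊓ @Flat ⊓ @QuasiCompact : MorphismProperty Scheme.{u})) ⟨⟨‹_›, ‹_›⟩, inferInstance⟩ hA
  refine ⟨isAffine_of_isAffineHom T.hom, MorphismProperty.of_pullback_snd_of_descendsAlong
    (Q := (@Surjective ⊓ @Flat ⊓ @QuasiCompact : MorphismProperty Scheme.{u})) ⟨⟨‹_›, ‹_›⟩, inferInstance⟩ hs, ?_⟩
  haveI : ConnectedSpace ↥(pullback T.hom φ) := ‹ConnectedSpace B.left›
  haveI : Surjective (pullback.fst T.hom φ) := inferInstance
  exact (pullback.fst T.hom φ).surjective.connectedSpace (pullback.fst T.hom φ).continuous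

end Groth.Agent.AGFLib.QuasiComp
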