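import Groth.Agent.AGFLib.QuasiComp.Hom
import Groth.Agent.AGFLib.QuasiComp.TorusProps
import Groth.Agent.AGFLib.BorelImage
import Groth.Agent.GrpSchLib.AntiAffineHom
import Groth.Agent.H23.RigidBase
import Groth.Agent.S5255
import Groth.Agent.S3280

/-! Semi-abelian groups are commutative. -/

set_option backward.isDefEq.respectTransparency false
set_option backward.isDefEq.respectTransparency.types false
set_option linter.style.haveILetI false

universe u

open CategoryTheory Limits AlgebraicGeometry MonoidalCategory CartesianMonoidalCategory MonObj GrpObj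
open scoped MonObj

namespace Groth.Agent.AGFLib.QuasiComp

variable {k : Type u} [Field k] [IsAlgClosed k]

local notation "PT" => 𝟙_ (Over (Spec (CommRingCat.of k)))

/-- A smooth connected extension of an abelian variety by a torus is commutative. -/
theorem comm_of_semiabelian {G T A : Over (Spec (CommRingCat.of k))} [GrpObj G] [GrpObj T] [GrpObj A]
    [Smooth G.hom] [QuasiCompact G.hom] [ConnectedSpace G.left] (i : T ⟶ G) [IsMonHom i] [IsClosedImmersion i.left]
    (hT : Red.IsTorus T) (q : G ⟶ A) [IsMonHom q] [Surjective q.left] [Flat q.left] (hk : AlgGrp.IsKernel i q)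
    [IsProper A.hom] [Smooth A.hom] [ConnectedSpace A.left] : IsCommMonObj G := by
  obtain ⟨hTa, hTs, hTc⟩ := torus_props hT
  haveI := hTa; haveI := hTs; haveI := hTc
  haveI : Mono i := (Over.forget _).mono_of_mono_map (inferInstanceAs (Mono i.left))
  haveI := GrpSchLib.AntiAffine.isSeparated_grp G
  haveI : IrreducibleSpace A.left := S0348.result k A
  haveI : IsReduced A.left := GrpSchLib.isReduced_of_smooth_field A.hom
  haveI : IsIntegral A.left := isIntegral_of_irreducibleSpace_of_isReduced A.left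
  haveI : GeometricallyIntegral A.hom := H23.EquidimFibres.geometricallyIntegral_of_isAlgClosed
  haveI : IsCommMonObj A := isCommMonObj_of_isProper_of_geometricallyIntegral A
  have hA : Function.Bijective A.hom.appTop := BorelImage.bijective_appTop_of_isProper A.hom
  have hkq : ∀ {X : Over (Spec (CommRingCat.of k))} (x : X ⟶ T), (x ≫ i) ≫ q = 1 := fun x => by
    rw [Category.assoc, hk.w, ← Category.assoc, comp_toUnit]; rfl
  have hlift : ∀ {X : Over (Spec (CommRingCat.of k))} (y : X ⟶ G), y ≫ q = 1 → ∃ x : X ⟶ T, x ≫ i = y :=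
    fun y hy => ⟨hk.lift y (toUnit _) hy, hk.lift_fst _ _ _⟩
  have hn : AlgGrp.IsNormalHom i := fun X g a => by
    obtain ⟨x, hx⟩ := hlift (g * (a ≫ i) * g⁻¹) (by
      rw [MonObj.mul_comp, MonObj.mul_comp, GrpObj.inv_comp, hkq, _root_.mul_one, mul_inv_cancel])
    exact ⟨x, hx.symm⟩
  have hcen : ∀ (X : Over (Spec (CommRingCat.of k))) (g : X ⟶ G) (t : X ⟶ T), g * (t ≫ i) = (t ≫ i) * g := by
    refine S5255.result G T (fun s => ?_) i (TorusQI.isMultTypeFT_of_isTorus hT) hn
    haveI : IsIso ((Spec (CommRingCat.of k)).fromSpecResidueField s) := H23.RigidBase.isIso_fromSpecResidueField k s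
    exact (pullback.fst G.hom _).homeomorph.symm.surjective.connectedSpace
      (pullback.fst G.hom _).homeomorph.symm.continuous
  have key : ∀ g : PT ⟶ G, (toUnit G ≫ g) * 𝟙 G = 𝟙 G * (toUnit G ≫ g) := fun g => by
    let c : ∀ {X : Over (Spec (CommRingCat.of k))}, (X ⟶ G) → (X ⟶ G) := fun {X} h =>
      (toUnit X ≫ g) * h * (toUnit X ≫ g)⁻¹ * h⁻¹
    obtain ⟨φ, hφ⟩ := hlift (c (𝟙 G)) (by
      simp only [c, MonObj.mul_comp, GrpObj.inv_comp]
      rw [mul_comm ((toUnit G ≫ g) ≫ q) (𝟙 G ≫ q), mul_inv_cancel_right, mul_inv_cancel])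
    have hpt : ∀ {X : Over (Spec (CommRingCat.of k))} (h : X ⟶ G), (h ≫ φ) ≫ i = c h := fun h => by
      rw [Category.assoc, hφ]
      simp only [c, MonObj.comp_mul, GrpObj.comp_inv, Category.comp_id, ← Category.assoc, comp_toUnit]
    have hmul : ∀ {X : Over (Spec (CommRingCat.of k))} (a b : X ⟶ G), (a * b) ≫ φ = (a ≫ φ) * (b ≫ φ) := fun a b => by
      rw [← cancel_mono i, hpt, MonObj.mul_comp _ _ i, hpt a, hpt b]
      have e := hcen _ a (b ≫ φ)
      rw [hpt b] at e
      have e' : a * c b * a⁻¹ = c b := by rw [e, mul_inv_cancel_right]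
      calc c (a * b) = c a * (a * c b * a⁻¹) := by simp only [c]; group
        _ = c a * c b := by rw [e']
    haveI : IsMonHom φ := by
      refine ⟨?_, ?_⟩
      · rw [← cancel_mono i, hpt, MonObj.one_eq_one, MonObj.one_eq_one, MonObj.one_comp]
        simp only [c, inv_one, _root_.mul_one, mul_inv_cancel]
      · rw [MonObj.mul_eq_mul G, hmul, Hom.mul_def, CartesianMonoidalCategory.lift_fst_comp_snd_comp]
    haveI : LocallyOfFiniteType A.hom := inferInstance
    haveI : QuasiCompact T.hom := by rw [← Over.w i]; infer_instance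
    obtain ⟨φ', -, hφ', -⟩ := S3280.result k G T A T q i hk φ (by
      rw [← cancel_mono i, hpt]
      have e : c i = 1 := by
        simp only [c]
        have := hcen T (toUnit T ≫ g) (𝟙 T)
        rw [Category.id_comp] at this
        rw [this, mul_inv_cancel_right, mul_inv_cancel]
      rw [e, Category.assoc, IsMonHom.one_hom i]
      rfl)
    have h1 : φ = 1 := by
      rw [← hφ', GrpSchLib.AntiAffine.eq_const_of_isAffine hA φ' η[A]]
      have : (η[A] ≫ φ') = 1 := by
        have h2 : η[G] ≫ φ = η[A] ≫ φ' := by rw [← hφ', ← Category.assoc, IsMonHom.one_hom q]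
        rw [← h2, IsMonHom.one_hom φ, MonObj.one_eq_one]
      rw [this, MonObj.comp_one, MonObj.comp_one]
    have := hpt (𝟙 G)
    rw [Category.id_comp, h1, MonObj.one_comp] at this
    simp only [c] at this
    exact mul_inv_eq_iff_eq_mul.1 (mul_inv_eq_one.1 this.symm)
  refine ⟨?_⟩
  have hall : ∀ {X : Over (Spec (CommRingCat.of k))} (h : X ⟶ G) (g : PT ⟶ G),
      (toUnit X ≫ g) * h = h * (toUnit X ≫ g) := fun h g => by
    have := congrArg (h ≫ ·) (key g)
    simpa only [MonObj.comp_mul, Category.comp_id, ← Category.assoc, comp_toUnit] using this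
  haveI : Smooth (G ⊗ G).hom := inferInstanceAs (Smooth (pullback.fst G.hom G.hom ≫ G.hom))
  rw [MonObj.mul_eq_mul G, MonObj.comp_mul, CartesianMonoidalCategory.braiding_hom_fst,
    CartesianMonoidalCategory.braiding_hom_snd]
  refine hom_ext_of_points fun w => ?_
  rw [MonObj.comp_mul, MonObj.comp_mul]
  have := hall (w ≫ fst G G) (w ≫ snd G G)
  rwa [toUnit_unique (toUnit PT) (𝟙 _), Category.id_comp] at this

end Groth.Agent.AGFLib.QuasiComp
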