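import Groth.Agent.GrpSchLib.QuotAffine
import Groth.Agent.GrpSchLib.ImageFactor
import Mathlib.AlgebraicGeometry.Morphisms.Finite

/-! Homomorphisms from connected affine groups to proper groups, over any field. -/

set_option backward.isDefEq.respectTransparency false
set_option backward.isDefEq.respectTransparency.types false
set_option linter.style.haveILetI false

universe u

open CategoryTheory Limits AlgebraicGeometry MonoidalCategory CartesianMonoidalCategory MonObj GrpObj
open scoped MonObj

namespace Groth.Agent.AGFLib.QuasiComp

variable {k : Type u} [Field k] {N A : Over (Spec (CommRingCat.of k))} [GrpObj N] [GrpObj A]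

/-- A connected, smooth, affine, proper group over a field is trivial. -/
theorem eq_one_of_affine_proper [IsAffine A.left] [IsProper A.hom] [Smooth A.hom] [ConnectedSpace A.left]
    {T : Over (Spec (CommRingCat.of k))} (x : T ⟶ A) : x = 1 := by
  haveI : IsFinite A.hom := IsFinite.iff_isProper_and_isAffineHom.2 ⟨inferInstance, isAffineHom_of_isAffine _⟩
  haveI : Finite A.left := by
    refine Set.finite_univ_iff.1 ((A.hom.finite_preimage_singleton (IsLocalRing.closedPoint k)).subset fun x _ => ?_)
    exact Subsingleton.elim (α := Spec (CommRingCat.of k)) _ _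
  haveI : Subsingleton A.left := by
    haveI : JacobsonSpace A.left := LocallyOfFiniteType.jacobsonSpace A.hom
    haveI : DiscreteTopology A.left := inferInstance
    exact PreconnectedSpace.trivial_of_discrete
  haveI : IsClosedImmersion (η[A].left ≫ A.hom) := by
    rw [Over.w η[A]]
    exact inferInstanceAs (IsClosedImmersion (𝟙 _))
  haveI : IsClosedImmersion η[A].left := IsClosedImmersion.of_comp η[A].left A.hom
  haveI : Surjective η[A].left := ⟨fun y => ⟨IsLocalRing.closedPoint k, Subsingleton.elim _ _⟩⟩
  haveI : IsReduced A.left := GrpSchLib.isReduced_of_smooth_field A.hom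
  haveI : IsIso η[A].left := isIso_of_isClosedImmersion_of_surjective _
  haveI : IsIso ((Over.forget _).map η[A]) := ‹IsIso η[A].left›
  haveI : IsIso η[A] := isIso_of_reflects_iso η[A] (Over.forget _)
  calc x = (x ≫ inv η[A]) ≫ η[A] := by rw [Category.assoc, IsIso.inv_hom_id, Category.comp_id]
    _ = 1 := by rw [toUnit_unique (x ≫ inv η[A]) (toUnit T)]; rfl

/-- Homomorphisms from a connected smooth affine group to a proper group are trivial. -/
theorem hom_eq_one_of_affine [Smooth N.hom] [ConnectedSpace N.left] [IsAffine N.left] [IsProper A.hom]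
    (f : N ⟶ A) [IsMonHom f] : f = 1 := by
  obtain ⟨I, _, p, j, hp, hj, hpj, hjc, hpf, hps, hIl, hIq⟩ := GrpSchLib.ImageFactor.exists_image f
  haveI : IsAffine I.left := GrpSchLib.isAffine_of_quotient p
  haveI : IsProper I.hom := by rw [← Over.w j]; infer_instance
  haveI : ConnectedSpace I.left := p.left.surjective.connectedSpace p.left.continuous
  haveI : Smooth I.hom := GrpSchLib.smooth_of_quotient p
  rw [← hpj, eq_one_of_affine_proper p, MonObj.one_comp]

end Groth.Agent.AGFLib.QuasiComp
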