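import Groth.Agent.AGFLib.QuasiComp.Compl
import Groth.Agent.AGFLib.LargestNormal
import Groth.Agent.GrpSchLib.AffineKer
import Groth.Agent.GrpSchLib.SmoothQuot
import Groth.Agent.S11397
import Groth.Agent.S3027

/-! Chevalley's theorem on algebraic groups. -/

set_option backward.isDefEq.respectTransparency false
set_option backward.isDefEq.respectTransparency.types false
set_option linter.style.haveILetI false

universe u

open CategoryTheory Limits AlgebraicGeometry MonoidalCategory CartesianMonoidalCategory MonObj GrpObj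
open scoped MonObj

namespace Groth.Agent.AGFLib.QuasiComp

open Gen

variable {k : Type u} [Field k] [IsAlgClosed k]

local notation "PT" => 𝟙_ (Over (Spec (CommRingCat.of k)))

/-- Finitely many rational points means dimension zero. -/
theorem krullDim_le_zero {X : Over (Spec (CommRingCat.of k))} [LocallyOfFiniteType X.hom] [IsSeparated X.hom]
    (S : Set (PT ⟶ X)) (hS : S.Finite) (h : ∀ t : PT ⟶ X, t ∈ S) : topologicalKrullDim X.left ≤ 0 := by
  have hu : (cp '' S : Set X.left) = Set.univ := by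
    refine eq_univ_of_forall_cp ?_ fun t => ⟨t, h t, rfl⟩
    rw [← Set.biUnion_of_singleton (cp '' S)]
    exact (hS.image _).isClosed_biUnion fun x ⟨t, _, ht⟩ => ht ▸ isClosed_cp t
  haveI : Finite X.left := Set.finite_univ_iff.mp (hu ▸ hS.image _)
  haveI : T1Space X.left := ⟨fun x => by
    obtain ⟨t, -, rfl⟩ := hu.ge (Set.mem_univ x)
    exact isClosed_cp t⟩
  haveI : DiscreteTopology X.left := Finite.instDiscreteTopology
  rw [topologicalKrullDim, Order.krullDim_nonpos_iff_forall_isMax]
  intro Z W hZW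
  obtain ⟨z, hz⟩ := Z.isIrreducible'.nonempty
  refine (show W.carrier ⊆ Z.carrier from fun w hw => ?_)
  obtain rfl : w = z := by
    by_contra hne
    obtain ⟨v, -, hv1, hv2⟩ := W.isIrreducible'.2 {w} {z} (isOpen_discrete _) (isOpen_discrete _)
      ⟨w, hw, rfl⟩ ⟨z, hZW hz, rfl⟩
    exact hne (hv1.symm.trans hv2)
  exact hz

variable {G N : Over (Spec (CommRingCat.of k))} [GrpObj G] [GrpObj N]

set_option maxHeartbeats 1000000 in
/-- The quotient by the largest connected affine normal subgroup is an abelian variety. -/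
theorem exists_abelian_quot [Smooth G.hom] [QuasiCompact G.hom] [ConnectedSpace G.left]
    (i : N ⟶ G) [IsMonHom i] [IsClosedImmersion i.left]
    [Smooth N.hom] [ConnectedSpace N.left] [IsAffine N.left] (hN : AlgGrp.IsNormalHom i)
    (hNmax : ∀ (N' : Over (Spec (CommRingCat.of k))) [GrpObj N'] (i' : N' ⟶ G) [IsMonHom i'] [IsClosedImmersion i'.left]
      [Smooth N'.hom] [ConnectedSpace N'.left] [IsAffine N'.left], AlgGrp.IsNormalHom i' → ∃ f : N' ⟶ N, f ≫ i = i') :
    ∃ (A : Over (Spec (CommRingCat.of k))) (_ : GrpObj A) (α : G ⟶ A), IsMonHom α ∧ IsProper A.hom ∧ Smooth A.hom ∧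
      ConnectedSpace A.left ∧ Surjective α.left ∧ Flat α.left ∧ AlgGrp.IsKernel i α := by
  obtain ⟨Q, _, q, hq, hqs, hqf, hql, hQl, hQq, hQsep, hker, -⟩ := GrpSchLib.GenQuot.exists_quot i hN
  haveI : Smooth (q.left ≫ Q.hom) := by rw [Over.w q]; infer_instance
  haveI : Smooth Q.hom := GrpSchLib.smooth_of_flat_surjective q.left Q.hom
  haveI : ConnectedSpace Q.left := q.left.surjective.connectedSpace q.left.continuous
  let P : ∀ (E : Over (Spec (CommRingCat.of k))) [GrpObj E], Prop := fun E _ => IsAffine E.left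
  have hPa : ∀ (N E Q : Over (Spec (CommRingCat.of k))) [GrpObj N] [GrpObj E] [GrpObj Q]
      [LocallyOfFiniteType N.hom] [QuasiCompact N.hom] [LocallyOfFiniteType E.hom] [QuasiCompact E.hom]
      [LocallyOfFiniteType Q.hom] [QuasiCompact Q.hom]
      (i : N ⟶ E) (q : E ⟶ Q) [IsMonHom i] [IsMonHom q] [Flat q.left] [Surjective q.left],
      AlgGrp.IsKernel i q → P N → P Q → P E := by
    intro N E Q _ _ _ _ _ _ _ _ _ i q _ _ _ _ hk hN hQ
    haveI : IsAffine N.left := hN
    haveI : IsAffine Q.left := hQ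
    haveI : IsAffineHom N.hom := isAffineHom_of_isAffine N.hom
    haveI : IsSeparated Q.hom := GrpSchLib.AntiAffine.isSeparated_grp Q
    haveI : QuasiCompact q.left := by
      haveI : QuasiCompact (q.left ≫ Q.hom) := by rw [Over.w q]; infer_instance
      exact QuasiCompact.of_comp q.left Q.hom
    have sq := GrpSchLib.HomKer.kernel_square (u := q) i hk
    haveI : IsAffineHom q.left := GrpSchLib.AffineKer.isAffineHom_of_kernel q (by
      rw [← sq.isoPullback_inv_snd]; infer_instance)
    exact isAffine_of_isAffineHom q.left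
  have triv : ∀ {M : Over (Spec (CommRingCat.of k))} [GrpObj M] (m : M ⟶ Q) [IsMonHom m]
      [IsClosedImmersion m.left] [Smooth M.hom] [ConnectedSpace M.left] [IsAffine M.left],
      AlgGrp.IsNormalHom m → ∀ x : PT ⟶ M, x = 1 := by
    intro M _ m _ _ _ _ _ hn x
    haveI : IsIso η[M] := LargestNormal.trivial_of_quot P hPa i (H := N) ‹IsAffine N.left›
      (fun H' _ j' _ h1 h2 h3 h4 h5 => by
        haveI := h1; haveI := h2; haveI := h3; haveI : IsAffine H'.left := h5
        exact hNmax H' j' h4) q hker m hn ‹IsAffine M.left›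
    calc x = (x ≫ inv η[M]) ≫ η[M] := by rw [Category.assoc, IsIso.inv_hom_id, Category.comp_id]
      _ = 1 := by rw [toUnit_unique (x ≫ inv η[M]) (𝟙 _), Category.id_comp]; exact MonObj.one_eq_one (M := M)
  obtain ⟨Z, _, z, hz, hzc, hZcen, R, _, r, hr, hRa, hRl, hrf, hrs, hrk⟩ := S3027.result k Q
  haveI : LocallyOfFiniteType Z.hom := by rw [← Over.w z]; infer_instance
  haveI : QuasiCompact Z.hom := by rw [← Over.w z]; infer_instance
  obtain ⟨C, _, e, he, hec, hCs, hCc, hCq, S, hS, hcov⟩ := BorelExist.exists_idComp (P := Z)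
  let c := e ≫ z
  haveI : IsClosedImmersion c.left := inferInstanceAs (IsClosedImmersion (e.left ≫ z.left))
  have hcen : ∀ {T : Over (Spec (CommRingCat.of k))} (x : T ⟶ C) (g : T ⟶ Q), (x ≫ c) * g = g * (x ≫ c) := by
    intro T x g
    have := (hZcen T (x ≫ c)).1 ⟨x ≫ e, Category.assoc _ _ _⟩ T (𝟙 T) g
    simpa using this
  haveI : IsProper C.hom := by
    by_contra hC
    obtain ⟨H', _, j', hj', hj'c, hH's, hH'a, hpos⟩ := S11397.result k C hC
    haveI : QuasiCompact H'.hom := by rw [← Over.w j']; infer_instance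
    obtain ⟨M, _, e', he', he'c, hMs, hMc, -, S', hS', hcov'⟩ := BorelExist.exists_idComp (P := H')
    haveI : IsAffine M.left := isAffine_of_isAffineHom e'.left
    let m := (e' ≫ j') ≫ c
    haveI : IsClosedImmersion m.left := inferInstanceAs (IsClosedImmersion ((e'.left ≫ j'.left) ≫ c.left))
    have hm := triv m (fun T g a => ⟨a, by
      rw [show a ≫ m = (a ≫ e' ≫ j') ≫ c by simp [m], ← hcen, mul_inv_cancel_right]⟩)
    haveI : IsSeparated H'.hom := GrpSchLib.AntiAffine.isSeparated_grp H'
    refine hpos.not_ge (krullDim_le_zero S' hS' fun t => ?_)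
    obtain ⟨s, hs, w, rfl⟩ := hcov' t
    rwa [hm w, MonObj.one_comp, _root_.mul_one]
  obtain ⟨H, _, h, hh, hhc, hHs, hHc, hHn, hsurj, hfin⟩ := exists_compl c
  haveI : QuasiCompact H.hom := by rw [← Over.w h]; infer_instance
  haveI : IsSeparated H.hom := GrpSchLib.AntiAffine.isSeparated_grp H
  haveI : IsSeparated R.hom := GrpSchLib.AntiAffine.isSeparated_grp R
  -- finitely many points of H in the centre
  let D : Over (Spec (CommRingCat.of k)) := Over.mk (pullback.fst c.left h.left ≫ C.hom)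
  haveI : IsFinite D.hom := hfin
  haveI : Finite D.left := by
    refine Set.finite_univ_iff.1 ((D.hom.finite_preimage_singleton (IsLocalRing.closedPoint k)).subset fun x _ => ?_)
    exact Subsingleton.elim (α := Spec (CommRingCat.of k)) _ _
  haveI : Finite (PT ⟶ D) := Finite.of_injective (fun g : PT ⟶ D => cp g) fun a b hab => cp_injective hab
  haveI : Finite S := hS.to_subtype
  let T₀ : Set (PT ⟶ H) := {x | ∃ y : PT ⟶ Z, y ≫ z = x ≫ h}
  have hT₀ : T₀.Finite := by
    have : ∀ x : T₀, ∃ s : S, ∃ v : PT ⟶ C, (s.1 * (v ≫ e)) ≫ z = x.1 ≫ h := fun ⟨x, y, hy⟩ => by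
      obtain ⟨s, hs, v, rfl⟩ := hcov y
      exact ⟨⟨s, hs⟩, v, hy⟩
    choose σ v hσ using this
    suffices hfib : ∀ s, Finite {x : T₀ // σ x = s} from
      Set.finite_coe_iff.1 (Finite.of_equiv _ (Equiv.sigmaFiberEquiv σ))
    intro s
    rcases isEmpty_or_nonempty {x : T₀ // σ x = s} with hem | ⟨⟨x₀, hx₀⟩⟩
    · infer_instance
    have hD : ∀ x : {x : T₀ // σ x = s}, ((v x₀)⁻¹ * v x.1) ≫ c = (x₀.1⁻¹ * x.1.1) ≫ h := fun ⟨x, hx⟩ => by
      have h1 := hσ x
      have h0 := hσ x₀
      rw [hx, MonObj.mul_comp, Category.assoc] at h1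
      rw [hx₀, MonObj.mul_comp, Category.assoc] at h0
      rw [MonObj.mul_comp, MonObj.mul_comp, GrpObj.inv_comp, GrpObj.inv_comp, ← h0, ← h1, _root_.mul_inv_rev,
        _root_.mul_assoc, inv_mul_cancel_left]
    let F : {x : T₀ // σ x = s} → (PT ⟶ D) := fun x =>
      Over.homMk (pullback.lift ((v x₀)⁻¹ * v x.1).left (x₀.1⁻¹ * x.1.1).left
        (congrArg CommaMorphism.left (hD x))) (by
          show pullback.lift _ _ _ ≫ pullback.fst _ _ ≫ C.hom = _
          rw [pullback.lift_fst_assoc]
          exact Over.w _)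
    refine Finite.of_injective F fun x y hxy => ?_
    have := congrArg (fun f : PT ⟶ D => f.left ≫ pullback.snd c.left h.left) hxy
    simp only [F, Over.homMk_left, pullback.lift_snd] at this
    exact Subtype.ext (Subtype.ext (mul_left_cancel (Over.OverMorphism.ext this)))
  obtain ⟨K, _, κ, hκ, hκc, -, hK⟩ := GrpSchLib.exists_kernel (h ≫ r)
  haveI : LocallyOfFiniteType K.hom := by rw [← Over.w κ]; infer_instance
  haveI : QuasiCompact K.hom := by rw [← Over.w κ]; infer_instance
  haveI : IsSeparated K.hom := by rw [← Over.w κ]; infer_instance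
  haveI : Finite T₀ := hT₀.to_subtype
  haveI : Mono κ := by
    have : Mono κ.left := inferInstance
    exact Over.mono_of_mono_left κ
  have hKT : ∀ t : PT ⟶ K, t ≫ κ ∈ T₀ := fun t =>
    ⟨hrk.lift ((t ≫ κ) ≫ h) (toUnit _) (by
      rw [Category.assoc, Category.assoc, hK.w, ← Category.assoc, comp_toUnit]), hrk.lift_fst _ _ _⟩
  haveI : Finite (PT ⟶ K) := Finite.of_injective (fun t => (⟨t ≫ κ, hKT t⟩ : T₀)) fun a b hab =>
    (cancel_mono κ).1 (congrArg Subtype.val hab)
  haveI : IsFinite K.hom := QuotProper.isFinite_of_finite_pts Set.univ Set.finite_univ fun _ => trivial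
  haveI : LocallyOfFiniteType H.hom := inferInstance
  haveI : QuasiCompact (h ≫ r).left := by
    haveI : QuasiCompact ((h ≫ r).left ≫ R.hom) := by rw [Over.w (h ≫ r)]; infer_instance
    exact QuasiCompact.of_comp (h ≫ r).left R.hom
  have sqK := GrpSchLib.HomKer.kernel_square (u := h ≫ r) κ hK
  haveI : IsAffineHom (h ≫ r).left := GrpSchLib.AffineKer.isAffineHom_of_kernel (h ≫ r) (by
    rw [← sqK.isoPullback_inv_snd]; infer_instance)
  haveI : IsAffine H.left := isAffine_of_isAffineHom (h ≫ r).left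
  have hH1 := triv h hHn
  haveI : LocallyOfFiniteType (C ⊗ H).hom := inferInstanceAs (LocallyOfFiniteType (pullback.fst C.hom H.hom ≫ C.hom))
  haveI : Surjective c.left := ⟨fun x => by
    refine (eq_univ_of_forall_cp c.left.isClosedEmbedding.isClosed_range fun g => ?_).ge (Set.mem_univ x)
    obtain ⟨w, hw⟩ := exists_of_mem_range ((c ⊗ₘ h) ≫ μ[Q]) g (Set.mem_range.2 (hsurj.surj _))
    refine ⟨cp (w ≫ fst C H), ?_⟩
    rw [← cp_comp, ← hw, ← CartesianMonoidalCategory.lift_fst_comp_snd_comp, ← Hom.mul_def, MonObj.comp_mul,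
      ← Category.assoc w (snd C H) h, hH1 (w ≫ snd C H), MonObj.one_comp, _root_.mul_one, Category.assoc]⟩
  haveI : IsReduced Q.left := GrpSchLib.isReduced_of_smooth_field Q.hom
  haveI : IsIso c.left := isIso_of_isClosedImmersion_of_surjective c.left
  have hQP : IsProper Q.hom := by
    rw [show Q.hom = inv c.left ≫ C.hom by rw [IsIso.eq_inv_comp, Over.w c]]
    infer_instance
  exact ⟨Q, inferInstance, q, hq, hQP, inferInstance, inferInstance, hqs, hqf, hker⟩

end Groth.Agent.AGFLib.QuasiComp
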