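import Groth.Agent.AGFLib.LinPart
import Groth.Agent.AGFLib.QuasiComp.Chevalley
import Groth.Agent.AGFLib.QuasiComp.AnyField

/-! The identity component of a smooth group and its Chevalley decomposition. -/

set_option backward.isDefEq.respectTransparency false
set_option backward.isDefEq.respectTransparency.types false
set_option linter.style.haveILetI false

universe u

open CategoryTheory Limits AlgebraicGeometry MonoidalCategory CartesianMonoidalCategory MonObj GrpObj
open scoped MonObj

namespace Groth.Agent.AGFLib.QuasiComp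

open Groth.Agent.AGFLib.Gen Groth.Agent.AGFLib.BorelFixed

variable {k : Type u} [Field k] [IsAlgClosed k] {G : Over (Spec (CommRingCat.of k))} [GrpObj G]

local notation "PT" => 𝟙_ (Over (Spec (CommRingCat.of k)))

/-- The identity component of a smooth group: an open and closed normal subgroup through which connected subgroups
factor. -/
theorem exists_openIdComp [Smooth G.hom] [QuasiCompact G.hom] :
    ∃ (G₀ : Over (Spec (CommRingCat.of k))) (_ : GrpObj G₀) (j : G₀ ⟶ G), IsMonHom j ∧ IsClosedImmersion j.left ∧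
      IsOpenImmersion j.left ∧ Smooth G₀.hom ∧ QuasiCompact G₀.hom ∧ ConnectedSpace G₀.left ∧
      AlgGrp.IsNormalHom j ∧ Set.range j.left = connectedComponent (cp (1 : PT ⟶ G)) ∧
      ∀ {T : Over (Spec (CommRingCat.of k))} [ConnectedSpace T.left] (f : T ⟶ G),
        cp (1 : PT ⟶ G) ∈ Set.range f.left → ∃ l : T ⟶ G₀, l ≫ j = f := by
  obtain ⟨C, _, j, hj, hjc, hjf, hrange, -, -⟩ := GrpSchLib.exists_identityComponent (G := G)
  haveI := hj; haveI := hjc; haveI := hjf
  haveI : Mono j := (Over.forget _).mono_of_mono_map (inferInstanceAs (Mono j.left))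
  haveI : LocallyOfFinitePresentation j.left := by
    haveI : LocallyOfFiniteType C.hom := by rw [← Over.w j]; infer_instance
    haveI : IsLocallyNoetherian G.left := LocallyOfFiniteType.isLocallyNoetherian G.hom
    infer_instance
  haveI : IsOpenImmersion j.left := IsOpenImmersion.of_flat_of_mono j.left
  have hr : Set.range j.left = connectedComponent (cp (1 : PT ⟶ G)) := by
    rw [hrange, ← MonObj.one_eq_one]
  haveI : Smooth C.hom := by rw [← Over.w j]; infer_instance
  haveI : QuasiCompact C.hom := by rw [← Over.w j]; infer_instance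
  haveI : ConnectedSpace C.left := by
    rw [connectedSpace_iff_univ]
    have h1 := isConnected_connectedComponent (x := cp (1 : PT ⟶ G))
    rw [← hr, ← Set.image_univ] at h1
    exact ⟨⟨cp (1 : PT ⟶ C), trivial⟩, j.left.isClosedEmbedding.isInducing.isPreconnected_image.mp h1.2⟩
  have hfac : ∀ {T : Over (Spec (CommRingCat.of k))} [ConnectedSpace T.left] (f : T ⟶ G),
      cp (1 : PT ⟶ G) ∈ Set.range f.left → ∃ l : T ⟶ C, l ≫ j = f := by
    intro T _ f hf
    have hsub : Set.range f.left ⊆ Set.range j.left := by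
      rw [hr]
      exact (isConnected_range f.left.continuous).isPreconnected.subset_connectedComponent hf
    refine ⟨Over.homMk (IsOpenImmersion.lift j.left f.left hsub) ?_,
      Over.OverMorphism.ext (IsOpenImmersion.lift_fac _ _ _)⟩
    rw [← Over.w j, ← Category.assoc, IsOpenImmersion.lift_fac, Over.w f]
  refine ⟨C, inferInstance, j, hj, hjc, inferInstance, inferInstance, inferInstance, inferInstance, ?_, hr, hfac⟩
  refine LinPart.isNormal_of_pts j fun g n => ?_
  obtain ⟨l, hl⟩ := hfac (j ≫ Borel.conjM g) ⟨cp (1 : PT ⟶ C), by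
    rw [← cp_comp, ← Category.assoc, MonObj.one_comp, Borel.comp_conjM,
      toUnit_unique (toUnit PT) (𝟙 _), Category.id_comp, _root_.mul_one, mul_inv_cancel]⟩
  refine ⟨n ≫ l, ?_⟩
  rw [Category.assoc, hl, ← Category.assoc, Borel.comp_conjM, toUnit_unique (toUnit PT) (𝟙 _), Category.id_comp]

/-- The largest connected affine normal subgroup of a smooth group is the affine part of its identity component. -/
theorem exists_idComp_abelian_quot [Smooth G.hom] [QuasiCompact G.hom] {N : Over (Spec (CommRingCat.of k))}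
    [GrpObj N] (i : N ⟶ G) [IsMonHom i] [IsClosedImmersion i.left]
    [Smooth N.hom] [ConnectedSpace N.left] [IsAffine N.left] (hN : AlgGrp.IsNormalHom i)
    (hNmax : ∀ (N' : Over (Spec (CommRingCat.of k))) [GrpObj N'] (i' : N' ⟶ G) [IsMonHom i'] [IsClosedImmersion i'.left]
      [Smooth N'.hom] [ConnectedSpace N'.left] [IsAffine N'.left], AlgGrp.IsNormalHom i' → ∃ f : N' ⟶ N, f ≫ i = i') :
    ∃ (G₀ : Over (Spec (CommRingCat.of k))) (_ : GrpObj G₀) (j : G₀ ⟶ G) (i₀ : N ⟶ G₀)
      (A : Over (Spec (CommRingCat.of k))) (_ : GrpObj A) (α : G₀ ⟶ A),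
      IsMonHom j ∧ IsClosedImmersion j.left ∧ IsOpenImmersion j.left ∧ Smooth G₀.hom ∧ QuasiCompact G₀.hom ∧
      ConnectedSpace G₀.left ∧ Set.range j.left = connectedComponent (cp (1 : PT ⟶ G)) ∧
      IsMonHom i₀ ∧ IsClosedImmersion i₀.left ∧ i₀ ≫ j = i ∧ IsMonHom α ∧ IsProper A.hom ∧ Smooth A.hom ∧
      ConnectedSpace A.left ∧ Surjective α.left ∧ Flat α.left ∧ AlgGrp.IsKernel i₀ α := by
  obtain ⟨G₀, _, j, hj, hjc, hjo, hs, hq, hc, hjn, hr, hfac⟩ := exists_openIdComp (G := G)
  haveI := hj; haveI := hjc; haveI := hjo; haveI := hs; haveI := hq; haveI := hc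
  haveI : Mono j := (Over.forget _).mono_of_mono_map (inferInstanceAs (Mono j.left))
  obtain ⟨i₀, hi₀⟩ := hfac i ⟨cp (1 : PT ⟶ N), by rw [← cp_comp, MonObj.one_comp]⟩
  haveI : IsMonHom i₀ :=
    { one_hom := by rw [← cancel_mono j, Category.assoc, hi₀, IsMonHom.one_hom i, IsMonHom.one_hom j]
      mul_hom := by
        rw [← cancel_mono j, Category.assoc, hi₀, IsMonHom.mul_hom i, Category.assoc, IsMonHom.mul_hom j,
          MonoidalCategory.tensorHom_comp_tensorHom_assoc, hi₀] }
  haveI : IsClosedImmersion (i₀.left ≫ j.left) := by rw [← Over.comp_left, hi₀]; infer_instance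
  haveI : IsClosedImmersion i₀.left := IsClosedImmersion.of_comp i₀.left j.left
  have hN₀ : AlgGrp.IsNormalHom i₀ := by
    intro T g a
    obtain ⟨a', ha'⟩ := hN T (g ≫ j) a
    refine ⟨a', (cancel_mono j).1 ?_⟩
    rw [MonObj.mul_comp, MonObj.mul_comp, GrpObj.inv_comp, Category.assoc, Category.assoc, hi₀, ha']
  let P : ∀ (E : Over (Spec (CommRingCat.of k))) [GrpObj E], Prop := fun E _ => IsAffine E.left
  have hPa : ∀ (N E Q : Over (Spec (CommRingCat.of k))) [GrpObj N] [GrpObj E] [GrpObj Q]
      [LocallyOfFiniteType N.hom] [QuasiCompact N.hom] [LocallyOfFiniteType E.hom] [QuasiCompact E.hom]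
      [LocallyOfFiniteType Q.hom] [QuasiCompact Q.hom]
      (i : N ⟶ E) (q : E ⟶ Q) [IsMonHom i] [IsMonHom q] [Flat q.left] [Surjective q.left],
      AlgGrp.IsKernel i q → P N → P Q → P E := by
    intro N E Q _ _ _ _ _ _ _ _ _ i q _ _ _ _ hk hN hQ
    haveI : IsAffine N.left := hN
    haveI : IsAffine Q.left := hQ
    haveI : IsAffineHom N.hom := isAffineHom_of_isAffine N.hom
    haveI : IsSeparated Q.hom := GrpSchLib.AntiAffine.isSeparated_grp Q
    haveI : QuasiCompact q.left := by
      haveI : QuasiCompact (q.left ≫ Q.hom) := by rw [Over.w q]; infer_instance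
      exact QuasiCompact.of_comp q.left Q.hom
    have sq := GrpSchLib.HomKer.kernel_square (u := q) i hk
    haveI : IsAffineHom q.left := GrpSchLib.AffineKer.isAffineHom_of_kernel q (by
      rw [← sq.isoPullback_inv_snd]; infer_instance)
    exact isAffine_of_isAffineHom q.left
  obtain ⟨L, _, l, hl, hlc, hLs, hLc, hLn, hLa, hLmax⟩ := LargestNormal.exists_largest (G := G₀) P hPa
    (fun E Q _ _ _ _ _ _ q _ _ _ hE => by
      haveI : IsAffine E.left := hE
      exact GrpSchLib.isAffine_of_quotient q)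
    ⟨N, inferInstance, i₀, inferInstance, inferInstance, inferInstance, inferInstance, hN₀, ‹IsAffine N.left›⟩
  haveI := hl; haveI := hlc; haveI := hLs; haveI := hLc
  haveI : IsAffine L.left := hLa
  obtain ⟨⟨g, hg⟩, -⟩ := LinPart.main j hjn i hN hNmax l hLn (fun N' _ i' _ _ _ _ _ hn' =>
    hLmax N' i' inferInstance inferInstance inferInstance hn' ‹IsAffine N'.left›)
  obtain ⟨A, _, α, hα⟩ := exists_abelian_quot i₀ hN₀ fun N' _ i' _ _ _ _ _ hn' => by
    obtain ⟨f, hf⟩ := hLmax N' i' inferInstance inferInstance inferInstance hn' ‹IsAffine N'.left›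
    refine ⟨f ≫ g, (cancel_mono j).1 ?_⟩
    rw [Category.assoc, Category.assoc, hi₀, hg, ← hf, Category.assoc]
  exact ⟨G₀, inferInstance, j, i₀, A, inferInstance, α, hj, hjc, hjo, hs, hq, hc, hr, inferInstance, inferInstance,
    hi₀, hα⟩

end Groth.Agent.AGFLib.QuasiComp
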