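import Groth.Agent.AGFLib.QuasiComp.Hom
import Groth.Agent.GrpSchLib.SmoothQuot
import Groth.Agent.AGFLib.GenSubgroup
import Groth.Agent.GrpSchLib.ImageFactor
import Groth.Agent.GrpSchLib.QuotAffine
import Groth.Agent.S5237
import Groth.Prelude.Def_RedSub

/-! Consequences of Chevalley's theorem: the Albanese morphism of an algebraic group. -/

set_option backward.isDefEq.respectTransparency false
set_option backward.isDefEq.respectTransparency.types false
set_option linter.style.haveILetI false

universe u

open CategoryTheory Limits AlgebraicGeometry MonoidalCategory CartesianMonoidalCategory MonObj GrpObj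
open scoped MonObj

namespace Groth.Agent.AGFLib.QuasiComp

open Gen

section General

variable {S : Scheme.{u}} {G N A : Over S} [GrpObj G] [GrpObj N] [GrpObj A]

/-- A faithfully flat homomorphism is the quotient by its kernel. -/
theorem isQuotient_of_kernel (i : N ⟶ G) [IsMonHom i] (α : G ⟶ A) [IsMonHom α] [Surjective α.left] [Flat α.left]
    [LocallyOfFinitePresentation α.left] (hker : AlgGrp.IsKernel i α) : RedSub.IsQuotient i α := by
  haveI : Mono i := ⟨fun a b e => hker.hom_ext e (toUnit_unique _ _)⟩
  have hiα : ∀ {T : Over S} (x : T ⟶ N), (x ≫ i) ≫ α = 1 := fun x => by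
    rw [Category.assoc, hker.w, ← Category.assoc, comp_toUnit]; rfl
  refine ⟨‹_›, ‹_›, ‹_›, ⟨⟨?_⟩, ⟨PullbackCone.IsLimit.mk _ (fun c => lift c.fst
    (hker.lift (c.fst⁻¹ * c.snd) (toUnit _) ?_)) (fun c => lift_fst _ _) (fun c => ?_) (fun c m h₁ h₂ => ?_)⟩⟩⟩
  · have e := GrpSchLib.GenQuot.comp_act (h := i) (r := 𝟙 (G ⊗ N))
    rw [Category.id_comp, Category.id_comp, Category.id_comp] at e
    show fst G N ≫ α = GrpSchLib.GenQuot.act i ≫ α
    rw [e, MonObj.mul_comp, hiα, _root_.mul_one]
  · rw [MonObj.mul_comp, GrpObj.inv_comp, c.condition, inv_mul_cancel]; rfl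
  · show _ ≫ GrpSchLib.GenQuot.act i = _
    rw [GrpSchLib.GenQuot.comp_act, lift_fst, lift_snd_assoc, hker.lift_fst, mul_inv_cancel_left]
  · apply CartesianMonoidalCategory.hom_ext
    · rw [lift_fst]; exact h₁
    · rw [lift_snd, ← cancel_mono i, hker.lift_fst, Category.assoc]
      have h₂' : m ≫ GrpSchLib.GenQuot.act i = c.snd := h₂
      rw [GrpSchLib.GenQuot.comp_act, h₁] at h₂'
      rw [← h₂', inv_mul_cancel_left]

end General

variable {k : Type u} [Field k] [IsAlgClosed k] {G N A : Over (Spec (CommRingCat.of k))} [GrpObj G] [GrpObj N]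
  [GrpObj A]

local notation "PT" => 𝟙_ (Over (Spec (CommRingCat.of k)))

/-- Homomorphisms from connected affine groups to proper groups are trivial. -/
theorem hom_eq_one [Smooth N.hom] [ConnectedSpace N.left] [IsAffine N.left] [IsProper A.hom] (f : N ⟶ A) [IsMonHom f] :
    f = 1 := by
  obtain ⟨I, _, p, j, hp, hj, hpj, hjc, hpf, hps, hIl, hIq⟩ := GrpSchLib.ImageFactor.exists_image f
  haveI : IsAffine I.left := GrpSchLib.isAffine_of_quotient p
  haveI : IsProper I.hom := by rw [← Over.w j]; infer_instance
  haveI : IsFinite I.hom := IsFinite.iff_isProper_and_isAffineHom.2 ⟨inferInstance, isAffineHom_of_isAffine _⟩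
  haveI : ConnectedSpace I.left := p.left.surjective.connectedSpace p.left.continuous
  haveI : Smooth (p.left ≫ I.hom) := by rw [Over.w p]; infer_instance
  haveI : Smooth I.hom := GrpSchLib.smooth_of_flat_surjective p.left I.hom
  haveI : Finite I.left := by
    refine Set.finite_univ_iff.1 ((I.hom.finite_preimage_singleton (IsLocalRing.closedPoint k)).subset fun x _ => ?_)
    exact Subsingleton.elim (α := Spec (CommRingCat.of k)) _ _
  haveI : IsSeparated I.hom := GrpSchLib.AntiAffine.isSeparated_grp I
  haveI : IrreducibleSpace I.left := Rosen.irreducibleSpace_of_connected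
  have key : ∀ w : PT ⟶ N, w ≫ f = 1 := fun w => by
    have e : w ≫ p = 1 := by
      refine cp_injective ?_
      haveI : T1Space I.left := ⟨fun x => by
        haveI : JacobsonSpace I.left := LocallyOfFiniteType.jacobsonSpace I.hom
        have hd : IsClosed (closedPoints I.left) := by
          rw [← Set.biUnion_of_singleton (closedPoints I.left)]
          exact (Set.toFinite _).isClosed_biUnion fun y hy => hy
        have := eq_univ_of_forall_cp hd fun t => isClosed_cp t
        exact this.ge (Set.mem_univ x)⟩
      haveI : DiscreteTopology I.left := Finite.instDiscreteTopology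
      haveI : Subsingleton I.left := PreconnectedSpace.trivial_of_discrete
      exact Subsingleton.elim _ _
    rw [← hpj, ← Category.assoc, e, MonObj.one_comp]
  exact hom_ext_of_points fun w => by rw [key, MonObj.comp_one]

/-- Morphisms to abelian varieties factor uniquely through the quotient by a connected affine normal subgroup. -/
theorem existsUnique_factor [Smooth G.hom] [QuasiCompact G.hom] [ConnectedSpace G.left]
    [Smooth N.hom] [ConnectedSpace N.left] [IsAffine N.left] (i : N ⟶ G) [IsMonHom i] [IsClosedImmersion i.left]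
    (hN : AlgGrp.IsNormalHom i) [IsProper A.hom] [Smooth A.hom] (α : G ⟶ A) [IsMonHom α] [Surjective α.left]
    [Flat α.left] (hker : AlgGrp.IsKernel i α) {B : Over (Spec (CommRingCat.of k))} [GrpObj B] [IsProper B.hom]
    [Smooth B.hom] [ConnectedSpace B.left] (f : G ⟶ B) : ∃! g : A ⟶ B, α ≫ g = f := by
  haveI := GrpSchLib.AntiAffine.isSeparated_grp G
  haveI : IrreducibleSpace G.left := Rosen.irreducibleSpace_of_connected
  haveI : IrreducibleSpace B.left := Rosen.irreducibleSpace_of_connected
  haveI : IsReduced G.left := GrpSchLib.isReduced_of_smooth_field G.hom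
  haveI : IsReduced B.left := GrpSchLib.isReduced_of_smooth_field B.hom
  haveI : IsIntegral G.left := isIntegral_of_irreducibleSpace_of_isReduced G.left
  haveI : IsIntegral B.left := isIntegral_of_irreducibleSpace_of_isReduced B.left
  haveI : GeometricallyIntegral G.hom := H23.EquidimFibres.geometricallyIntegral_of_isAlgClosed
  haveI : GeometricallyIntegral B.hom := H23.EquidimFibres.geometricallyIntegral_of_isAlgClosed
  haveI : LocallyOfFinitePresentation α.left := by
    haveI : LocallyOfFinitePresentation (α.left ≫ A.hom) := by rw [Over.w α]; infer_instance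
    exact AlgSpPts.locallyOfFinitePresentation_of_comp α.left A.hom
  haveI : Mono i := by
    have : Mono i.left := inferInstance
    exact Over.mono_of_mono_left i
  let c : PT ⟶ B := η[G] ≫ f
  let f' : G ⟶ B := f * (toUnit G ≫ c)⁻¹
  have hf' : η[G] ≫ f' = η[B] := by
    simp only [f', MonObj.comp_mul, GrpObj.comp_inv, ← Category.assoc, comp_toUnit,
      toUnit_unique (toUnit PT) (𝟙 PT), Category.id_comp, c, mul_inv_cancel]
    exact (MonObj.one_eq_one (M := B)).symm
  haveI := S11994.result k G B f' hf'
  obtain ⟨g, ⟨hg, -⟩, -⟩ := S5237.result i hN α (isQuotient_of_kernel i α hker) f' (hom_eq_one (i ≫ f'))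
  have hα : α ≫ (g * (toUnit A ≫ c)) = f := by
    rw [MonObj.comp_mul, hg, ← Category.assoc, comp_toUnit, inv_mul_cancel_right]
  haveI : Flat α.left := ‹_›
  haveI : Epi α := by
    haveI : EffectiveEpi α.left := inferInstance
    exact (Over.forget _).epi_of_epi_map (inferInstanceAs (Epi α.left))
  exact ⟨_, hα, fun g' hg' => by rw [← cancel_epi α, hg', hα]⟩

end Groth.Agent.AGFLib.QuasiComp
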