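import Groth.Agent.AGFLib.QuasiComp.Hom
import Groth.Agent.AGFLib.BorelExist
import Groth.Agent.AGFLib.QuotProper
import Groth.Agent.GrpSchLib.KernelGrp
import Groth.Agent.GrpSchLib.HomClosedRange
import Groth.Agent.GrpSchLib.ReducedPoints
import Groth.Agent.Lib.AVMulN

/-! Quasi-complements of abelian subvarieties. -/

set_option backward.isDefEq.respectTransparency false
set_option backward.isDefEq.respectTransparency.types false
set_option linter.style.haveILetI false

universe u

open CategoryTheory Limits AlgebraicGeometry MonoidalCategory CartesianMonoidalCategory MonObj GrpObj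
open scoped MonObj

namespace Groth.Agent.AGFLib.QuasiComp

open Gen

variable {k : Type u} [Field k] [IsAlgClosed k]

local notation "PT" => 𝟙_ (Over (Spec (CommRingCat.of k)))

/-- A map from a smooth scheme factors through a closed subscheme if its rational points do. -/
theorem exists_fac {W X Z : Over (Spec (CommRingCat.of k))} [Smooth W.hom] (f : W ⟶ X) (c : Z ⟶ X)
    [IsClosedImmersion c.left] (h : ∀ w : PT ⟶ W, ∃ z : PT ⟶ Z, z ≫ c = w ≫ f) : ∃ f' : W ⟶ Z, f' ≫ c = f := by
  haveI : IsReduced W.left := GrpSchLib.isReduced_of_smooth_field W.hom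
  refine GrpSchLib.exists_fac_of_points (K := k) f c fun s => ?_
  obtain ⟨e, he⟩ := exists_unit_section (k := k)
  obtain ⟨z, hz⟩ := h (e ≫ s)
  exact ⟨toUnit _ ≫ z, by rw [Category.assoc, hz, ← Category.assoc, ← Category.assoc, he, Category.id_comp]⟩

variable {K P : Over (Spec (CommRingCat.of k))} [GrpObj K] [GrpObj P]

/-- A closed subgroup of finite index contains connected smooth images meeting it. -/
theorem exists_fac_finite_index [LocallyOfFiniteType K.hom] [IsSeparated K.hom] (e : P ⟶ K) [IsMonHom e]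
    [IsClosedImmersion e.left] (S : Set (PT ⟶ K)) (hS : S.Finite)
    (hcov : ∀ p : PT ⟶ K, ∃ s ∈ S, ∃ q : PT ⟶ P, s * (q ≫ e) = p)
    {W : Over (Spec (CommRingCat.of k))} [Smooth W.hom] [PreconnectedSpace W.left] (φ : W ⟶ K)
    (w₀ : PT ⟶ W) (q₀ : PT ⟶ P) (h₀ : w₀ ≫ φ = q₀ ≫ e) : ∃ φ' : W ⟶ P, φ' ≫ e = φ := by
  haveI : LocallyOfFiniteType P.hom := by rw [← Over.w e]; infer_instance
  let L : (PT ⟶ K) → (K ⟶ K) := fun s => (toUnit K ≫ s) * 𝟙 K
  have hL : ∀ s q : PT ⟶ K, q ≫ L s = s * q := fun s q => by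
    simp only [L, MonObj.comp_mul, Category.comp_id, ← Category.assoc, comp_toUnit,
      toUnit_unique (toUnit PT) (𝟙 PT), Category.id_comp]
  have hLL : ∀ s, L s⁻¹ ≫ L s = 𝟙 K := fun s => by
    simp only [L, MonObj.comp_mul, Category.comp_id]
    rw [← Category.assoc, comp_toUnit, GrpObj.comp_inv, mul_inv_cancel_left]
  have hmem : ∀ (s : PT ⟶ K) (x : K.left), x ∈ (L s⁻¹).left ⁻¹' Set.range e.left →
      x ∈ (L s).left '' Set.range e.left := fun s x hx => ⟨_, hx, by
    rw [← Scheme.Hom.comp_apply, ← Over.comp_left, hLL, Over.id_left]; rfl⟩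
  let C : (PT ⟶ K) → Set K.left := fun s => (L s⁻¹).left ⁻¹' Set.range e.left
  have hC : ∀ s, IsClosed (C s) := fun s => e.left.isClosedEmbedding.isClosed_range.preimage (L s⁻¹).left.continuous
  have hCmem : ∀ s q : PT ⟶ K, cp q ∈ C s ↔ ∃ x : PT ⟶ P, x ≫ e = s⁻¹ * q := fun s q => by
    show (L s⁻¹).left (cp q) ∈ Set.range e.left ↔ _
    rw [← cp_comp, hL]
    exact ⟨fun h => exists_of_mem_range e _ h, fun ⟨x, hx⟩ => ⟨cp x, by rw [← hx]; rfl⟩⟩
  let B : Set K.left := ⋃ s ∈ {s ∈ S | ¬ ∃ x : PT ⟶ P, x ≫ e = s}, C s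
  have hB : IsClosed B := (hS.subset fun _ h => h.1).isClosed_biUnion fun s _ => hC s
  have hdisj : ∀ s, (¬ ∃ x : PT ⟶ P, x ≫ e = s) → Disjoint (Set.range e.left) (C s) := fun s hs => by
    rw [Set.disjoint_iff_inter_eq_empty]
    by_contra hne
    haveI : JacobsonSpace K.left := LocallyOfFiniteType.jacobsonSpace K.hom
    obtain ⟨x, ⟨hx1, hx2⟩, hxc⟩ := nonempty_inter_closedPoints (Set.nonempty_iff_ne_empty.2 hne)
      (e.left.isClosedEmbedding.isClosed_range.inter (hC s)).isLocallyClosed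
    obtain ⟨q, rfl⟩ := exists_cp hxc
    obtain ⟨a, ha⟩ := exists_of_mem_range e q hx1
    obtain ⟨b, hb⟩ := (hCmem s q).1 hx2
    exact hs ⟨a * b⁻¹, by rw [MonObj.mul_comp, GrpObj.inv_comp, ha, hb, _root_.mul_inv_rev, _root_.inv_inv, mul_inv_cancel_left]⟩
  have hu : Set.range e.left ∪ B = Set.univ := eq_univ_of_forall_cp
    (e.left.isClosedEmbedding.isClosed_range.union hB) fun p => by
      obtain ⟨s, hs, q, rfl⟩ := hcov p
      by_cases h : ∃ x : PT ⟶ P, x ≫ e = s
      · obtain ⟨x, rfl⟩ := h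
        exact Or.inl ⟨cp (x * q), by rw [← MonObj.mul_comp]; rfl⟩
      · exact Or.inr (Set.mem_biUnion ⟨hs, h⟩ ((hCmem s _).2 ⟨q, by rw [inv_mul_cancel_left]⟩))
  have hcl : IsClopen (Set.range e.left) := by
    refine ⟨e.left.isClosedEmbedding.isClosed_range, ?_⟩
    have : Set.range e.left = Bᶜ := by
      refine (IsCompl.eq_compl ⟨?_, codisjoint_iff.2 hu⟩)
      simp only [B, Set.disjoint_iUnion_right]
      exact fun s hs => hdisj s hs.2
    rw [this]; exact hB.isOpen_compl
  have hsub : ∀ w : W.left, φ.left w ∈ Set.range e.left := fun w => by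
    have := (hcl.preimage φ.left.continuous).eq_univ ⟨cp w₀, cp q₀, by rw [← cp_comp, ← cp_comp, h₀]⟩
    exact this.ge (Set.mem_univ w)
  exact exists_fac φ e fun w => exists_of_mem_range e _ (hsub (cp w))

variable {G A : Over (Spec (CommRingCat.of k))} [GrpObj G] [GrpObj A]

set_option maxHeartbeats 1000000 in
/-- An abelian subvariety has a quasi-complement. -/
theorem exists_compl [Smooth G.hom] [QuasiCompact G.hom] [ConnectedSpace G.left]
    [IsProper A.hom] [Smooth A.hom] [ConnectedSpace A.left] (i : A ⟶ G) [IsMonHom i] [IsClosedImmersion i.left] :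
    ∃ (H : Over (Spec (CommRingCat.of k))) (_ : GrpObj H) (h : H ⟶ G), IsMonHom h ∧ IsClosedImmersion h.left ∧
      Smooth H.hom ∧ ConnectedSpace H.left ∧ AlgGrp.IsNormalHom h ∧ Surjective ((i ⊗ₘ h) ≫ μ[G]).left ∧
      IsFinite (pullback.fst i.left h.left ≫ A.hom) := by
  haveI := GrpSchLib.AntiAffine.isSeparated_grp G
  haveI : IrreducibleSpace G.left := Rosen.irreducibleSpace_of_connected
  haveI : IrreducibleSpace A.left := Rosen.irreducibleSpace_of_connected
  haveI : IsReduced A.left := GrpSchLib.isReduced_of_smooth_field A.hom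
  haveI : IsIntegral A.left := isIntegral_of_irreducibleSpace_of_isReduced A.left
  haveI : GeometricallyIntegral A.hom := H23.EquidimFibres.geometricallyIntegral_of_isAlgClosed
  obtain ⟨f, hf, n, hn, hfn⟩ := exists_hom i
  obtain ⟨K, _, k₀, hk₀, hk₀c, hk₀n, hker⟩ := GrpSchLib.exists_kernel f
  haveI : LocallyOfFiniteType K.hom := by rw [← Over.w k₀]; infer_instance
  haveI : QuasiCompact K.hom := by rw [← Over.w k₀]; infer_instance
  haveI : IsSeparated K.hom := by rw [← Over.w k₀]; infer_instance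
  obtain ⟨H, _, e, he, hec, hHs, hHc, hHq, S, hS, hcov⟩ := BorelExist.exists_idComp (P := K)
  let h := e ≫ k₀
  haveI : IsClosedImmersion h.left := inferInstanceAs (IsClosedImmersion (e.left ≫ k₀.left))
  haveI : Smooth (G ⊗ H).hom := inferInstanceAs (Smooth (pullback.fst G.hom H.hom ≫ G.hom))
  haveI : IsFinite ((𝟙 A) ^ n : A ⟶ A).left := AVMulN.isFinite_pow n hn
  have hpow : ∀ {T : Over (Spec (CommRingCat.of k))} (a : T ⟶ A), (a ≫ i) ≫ f = a ^ n := fun a => by
    rw [Category.assoc, hfn, MonObj.comp_pow, Category.comp_id]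
  have hkerw : ∀ {T : Over (Spec (CommRingCat.of k))} (x : T ⟶ K), (x ≫ k₀) ≫ f = 1 := fun x => by
    rw [Category.assoc, hker.w, ← Category.assoc, comp_toUnit]; rfl
  have hkerl : ∀ {T : Over (Spec (CommRingCat.of k))} (g : T ⟶ G), g ≫ f = 1 → ∃ x : T ⟶ K, x ≫ k₀ = g :=
    fun g hg => ⟨hker.lift g (toUnit _) hg, hker.lift_fst _ _ _⟩
  refine ⟨H, inferInstance, h, inferInstance, inferInstance, hHs, hHc, ?_, ?_, ?_⟩
  · obtain ⟨x, hx⟩ := hkerl ((fst G H) * (snd G H ≫ h) * (fst G H)⁻¹) (by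
      simp only [MonObj.mul_comp, GrpObj.inv_comp, h, ← Category.assoc]
      rw [hkerw, _root_.mul_one, mul_inv_cancel])
    haveI : IrreducibleSpace H.left := Rosen.irreducibleSpace_of_connected
    haveI : IsReduced G.left := GrpSchLib.isReduced_of_smooth_field G.hom
    haveI : IsReduced H.left := GrpSchLib.isReduced_of_smooth_field H.hom
    haveI : IsIntegral G.left := isIntegral_of_irreducibleSpace_of_isReduced G.left
    haveI : IsIntegral H.left := isIntegral_of_irreducibleSpace_of_isReduced H.left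
    haveI : GeometricallyIntegral G.hom := H23.EquidimFibres.geometricallyIntegral_of_isAlgClosed
    haveI : GeometricallyIntegral H.hom := H23.EquidimFibres.geometricallyIntegral_of_isAlgClosed
    haveI := H23.RatExt.geometricallyIntegral_prod G H
    haveI : IsIntegral (G ⊗ H).left := H23.MaxAbelian.isIntegral_of_geometricallyIntegral
    obtain ⟨c, hc⟩ := exists_fac_finite_index e S hS hcov x (lift (1 : PT ⟶ G) (1 : PT ⟶ H)) 1 (by
      have : Mono k₀ := by
        have : Mono k₀.left := inferInstance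
        exact Over.mono_of_mono_left k₀
      rw [← cancel_mono k₀, Category.assoc, hx, MonObj.one_comp, MonObj.one_comp]
      simp only [MonObj.comp_mul, GrpObj.comp_inv, lift_fst, lift_snd_assoc, MonObj.one_comp, _root_.mul_one, mul_inv_cancel])
    intro T g m
    refine ⟨lift g m ≫ c, ?_⟩
    rw [Category.assoc]
    show _ = lift g m ≫ c ≫ e ≫ k₀
    rw [reassoc_of% hc, hx]
    simp only [MonObj.comp_mul, GrpObj.comp_inv, lift_fst, lift_snd_assoc]
  · let Φ : A ⊗ H ⟶ G := (i ⊗ₘ h) ≫ μ[G]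
    have hΦ : Φ = (fst A H ≫ i) * (snd A H ≫ h) := by
      rw [Hom.mul_def, CartesianMonoidalCategory.lift_fst_comp_snd_comp]
    haveI : IsMonHom Φ := by
      refine ⟨?_, ?_⟩
      · rw [hΦ, MonObj.comp_mul, ← Category.assoc, IsMonHom.one_hom, IsMonHom.one_hom, ← Category.assoc,
          IsMonHom.one_hom, IsMonHom.one_hom, MonObj.one_eq_one, _root_.mul_one]
      · have e1 : μ[A ⊗ H] = fst _ _ * snd _ _ := MonObj.mul_eq_mul _
        rw [show (Φ ⊗ₘ Φ) ≫ μ[G] = (fst _ _ ≫ Φ) * (snd _ _ ≫ Φ) by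
          rw [Hom.mul_def, CartesianMonoidalCategory.lift_fst_comp_snd_comp], e1]
        simp only [hΦ, MonObj.comp_mul, ← Category.assoc, MonObj.mul_comp]
        simp only [_root_.mul_assoc]
        congr 1
        rw [← _root_.mul_assoc, ← _root_.mul_assoc, central i]
    haveI : LocallyOfFiniteType (A ⊗ H).hom := inferInstanceAs (LocallyOfFiniteType (pullback.fst A.hom H.hom ≫ A.hom))
    haveI : QuasiCompact (A ⊗ H).hom := inferInstanceAs (QuasiCompact (pullback.fst A.hom H.hom ≫ A.hom))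
    haveI : QuasiCompact Φ.left := by
      haveI : QuasiCompact (Φ.left ≫ G.hom) := by rw [Over.w Φ]; infer_instance
      exact QuasiCompact.of_comp Φ.left G.hom
    have hTc := GrpSchLib.HomClosedRange.isClosed_range Φ
    let L : (PT ⟶ G) → (G ⟶ G) := fun g => (toUnit G ≫ g) * 𝟙 G
    have hL : ∀ g q : PT ⟶ G, q ≫ L g = g * q := fun g q => by
      simp only [L, MonObj.comp_mul, Category.comp_id, ← Category.assoc, comp_toUnit,
        toUnit_unique (toUnit PT) (𝟙 PT), Category.id_comp]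
    have hLL : ∀ g, L g ≫ L g⁻¹ = 𝟙 G := fun g => by
      simp only [L, MonObj.comp_mul, Category.comp_id]
      rw [← Category.assoc, comp_toUnit, GrpObj.comp_inv, inv_mul_cancel_left]
    haveI : IsFinite ((𝟙 A) ^ n : A ⟶ A).left := AVMulN.isFinite_pow n hn
    haveI : Surjective ((𝟙 A) ^ n : A ⟶ A).left := AVMulN.surjective_pow n hn
    let U : Set G.left := ⋃ s ∈ S, (L (s ≫ k₀)⁻¹).left ⁻¹' Set.range Φ.left
    have hU : U = Set.univ := eq_univ_of_forall_cp
      (hS.isClosed_biUnion fun s _ => hTc.preimage (L (s ≫ k₀)⁻¹).left.continuous) fun g => by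
      obtain ⟨b, hb⟩ := exists_of_mem_range ((𝟙 A) ^ n) (g ≫ f)
        (Set.mem_range.2 (((𝟙 A) ^ n : A ⟶ A).left.surjective _))
      rw [MonObj.comp_pow, Category.comp_id] at hb
      obtain ⟨x, hx⟩ := hkerl ((b ≫ i)⁻¹ * g) (by
        rw [MonObj.mul_comp, GrpObj.inv_comp, hpow, hb, inv_mul_cancel])
      obtain ⟨s, hs, q, rfl⟩ := hcov x
      refine Set.mem_biUnion hs ?_
      rw [Set.mem_preimage, ← cp_comp, hL]
      refine ⟨cp (lift b q), ?_⟩
      rw [← cp_comp, hΦ, MonObj.comp_mul, lift_fst_assoc, lift_snd_assoc]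
      congr 1
      rw [MonObj.mul_comp, eq_inv_mul_iff_mul_eq, Category.assoc] at hx
      rw [eq_inv_mul_iff_mul_eq, ← _root_.mul_assoc, ← central i b (s ≫ k₀), _root_.mul_assoc]
      exact hx
    obtain ⟨s, hs, hgen⟩ := Set.mem_iUnion₂.1 (hU.ge (Set.mem_univ (genericPoint G.left)))
    have hall : ∀ x : G.left, (L (s ≫ k₀)⁻¹).left x ∈ Set.range Φ.left := fun x =>
      ((genericPoint_specializes x).mem_closed (hTc.preimage (L (s ≫ k₀)⁻¹).left.continuous)) hgen
    refine ⟨fun x => ?_⟩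
    have := hall ((L (s ≫ k₀)).left x)
    rwa [← Scheme.Hom.comp_apply, ← Over.comp_left, hLL, Over.id_left] at this
  · let P := pullback i.left h.left
    haveI : IsClosedImmersion (pullback.fst i.left h.left) := inferInstance
    haveI : IsFinite (pullback.fst i.left h.left ≫ ((𝟙 A) ^ n : A ⟶ A).left) := inferInstance
    have e1 : pullback.fst i.left h.left ≫ ((𝟙 A) ^ n : A ⟶ A).left =
        (pullback.fst i.left h.left ≫ A.hom) ≫ η[A].left := by
      rw [← hfn, show (i ≫ f).left = i.left ≫ f.left from rfl, ← Category.assoc (pullback.fst i.left h.left) i.left,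
        pullback.condition, Category.assoc, show h.left ≫ f.left = (h ≫ f).left from rfl,
        show h ≫ f = toUnit H ≫ η[A] from hkerw e, show (toUnit H ≫ η[A]).left = H.hom ≫ η[A].left from rfl,
        ← Category.assoc]
      congr 1
      rw [← Over.w i, pullback.condition_assoc, Over.w h]
    haveI : IsClosedImmersion η[A].left := inferInstance
    haveI : IsFinite ((pullback.fst i.left h.left ≫ A.hom) ≫ η[A].left) := e1 ▸ ‹_›
    exact IsFinite.of_comp _ η[A].left

end Groth.Agent.AGFLib.QuasiComp
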