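import Groth.Agent.AGFLib.QuasiComp.Lifts
import Groth.Agent.AGFLib.Rosen.Reduce
import Groth.Agent.GrpSchLib.GenQuot
import Groth.Agent.GrpSchLib.SepPoints
import Groth.Agent.GrpSchLib.RigidHom
import Groth.Agent.S11994

/-! Homomorphisms onto abelian subvarieties restricting to a power map. -/

set_option backward.isDefEq.respectTransparency false
set_option backward.isDefEq.respectTransparency.types false
set_option linter.style.haveILetI false

universe u

open CategoryTheory Limits AlgebraicGeometry MonoidalCategory CartesianMonoidalCategory MonObj GrpObj IsLocalRing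
open scoped MonObj

namespace Groth.Agent.AGFLib.QuasiComp

open H23.RatPoint Rosen

variable {k : Type u} [Field k]

local notation "PT" => 𝟙_ (Over (Spec (CommRingCat.of k)))

/-- An embedding of fields extends to separable extensions. -/
theorem exists_ext {F L M : Type u} [Field F] [Field L] [Field M] [Algebra F L] [Algebra.IsSeparable F L]
    [IsSepClosed M] (e : F →+* M) : ∃ σ : L →+* M, σ.comp (algebraMap F L) = e := by
  letI := e.toAlgebra
  let s : L →ₐ[F] M := IsSepClosed.lift
  exact ⟨s.toRingHom, RingHom.ext s.commutes⟩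

variable {G A : Over (Spec (CommRingCat.of k))} [GrpObj G] [GrpObj A]

/-- An abelian subvariety is central. -/
theorem central [Smooth G.hom] [ConnectedSpace G.left] [IsProper A.hom] [GeometricallyIntegral A.hom]
    (i : A ⟶ G) [IsMonHom i] {T : Over (Spec (CommRingCat.of k))} (a : T ⟶ A) (g : T ⟶ G) :
    (a ≫ i) * g = g * (a ≫ i) := by
  haveI := GrpSchLib.AntiAffine.isSeparated_grp G
  let φ : A ⊗ G ⟶ G := (fst A G ≫ i) * snd A G * (fst A G ≫ i)⁻¹ * (snd A G)⁻¹
  have hφ : φ = 1 := by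
    refine GrpSchLib.RigidHom.eq_one_of_axes φ η[A] η[G] ?_ ?_
    · simp only [φ, MonObj.comp_mul, GrpObj.comp_inv, lift_fst_assoc, lift_snd, ← Hom.one_def,
        Category.id_comp, _root_.mul_one, inv_one, mul_inv_cancel]
    · simp only [φ, MonObj.comp_mul, GrpObj.comp_inv, lift_fst_assoc, lift_snd, ← Hom.one_def,
        MonObj.one_comp, _root_.one_mul, inv_one, _root_.mul_one, mul_inv_cancel]
  have := congrArg (lift a g ≫ ·) hφ
  simp only [φ, MonObj.comp_mul, GrpObj.comp_inv, lift_fst_assoc, lift_snd, MonObj.comp_one] at this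
  rwa [mul_inv_eq_one, mul_inv_eq_iff_eq_mul] at this

omit [GrpObj A] in
theorem comp_quot {Q : Over (Spec (CommRingCat.of k))} [GrpObj A] (i : A ⟶ G) (q : G ⟶ Q)
    (w : GrpSchLib.GenQuot.act i ≫ q = fst G A ≫ q) {T : Over (Spec (CommRingCat.of k))} (g : T ⟶ G) (a : T ⟶ A) :
    (g * (a ≫ i)) ≫ q = g ≫ q := by
  have h1 := congrArg (lift g a ≫ ·) w
  have e := GrpSchLib.GenQuot.comp_act (h := i) (r := lift g a)
  rw [lift_fst, lift_snd_assoc] at e
  rw [← e]
  refine ((Category.assoc _ _ _).trans h1).trans ?_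
  rw [← Category.assoc, lift_fst]

variable [IsAlgClosed k]

omit [IsAlgClosed k] in
/-- The base point of the spectrum of the ground field is a rational point. -/
theorem exists_unit_section :
    ∃ e : PT ⟶ Over.mk (Spec.map (CommRingCat.ofHom (algebraMap k k))), toUnit _ ≫ e = 𝟙 _ := by
  have h : Spec.map (CommRingCat.ofHom (algebraMap k k)) = 𝟙 (Spec (CommRingCat.of k)) := by
    rw [Algebra.algebraMap_self, CommRingCat.ofHom_id, Spec.map_id]
  rw [h]
  exact ⟨Over.mkIdTerminal.from PT, Over.mkIdTerminal.hom_ext _ _⟩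

/-- Morphisms from a smooth scheme to a separated one are determined by rational points. -/
theorem hom_ext_of_points {W Z : Over (Spec (CommRingCat.of k))} [Smooth W.hom] [IsSeparated Z.hom]
    {f g : W ⟶ Z} (h : ∀ w : PT ⟶ W, w ≫ f = w ≫ g) : f = g := by
  refine (GrpSchLib.densePts_of_smooth (K := k) W).hom_ext fun x => ?_
  obtain ⟨e, he⟩ := exists_unit_section (k := k)
  rw [← Category.id_comp x, ← he, Category.assoc, Category.assoc, Category.assoc, Category.assoc,
    ← Category.assoc e, h, Category.assoc]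

set_option maxHeartbeats 1000000 in
/-- A homomorphism to an abelian subvariety restricting to a positive power map. -/
theorem exists_hom [Smooth G.hom] [QuasiCompact G.hom] [ConnectedSpace G.left]
    [IsProper A.hom] [Smooth A.hom] [ConnectedSpace A.left] (i : A ⟶ G) [IsMonHom i] [IsClosedImmersion i.left] :
    ∃ f : G ⟶ A, IsMonHom f ∧ ∃ n : ℕ, 0 < n ∧ i ≫ f = (𝟙 A) ^ n := by
  classical
  haveI := GrpSchLib.AntiAffine.isSeparated_grp G
  haveI : IrreducibleSpace G.left := irreducibleSpace_of_connected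
  haveI : IrreducibleSpace A.left := irreducibleSpace_of_connected
  haveI : IsReduced G.left := GrpSchLib.isReduced_of_smooth_field G.hom
  haveI : IsReduced A.left := GrpSchLib.isReduced_of_smooth_field A.hom
  haveI : IsIntegral G.left := isIntegral_of_irreducibleSpace_of_isReduced G.left
  haveI : IsIntegral A.left := isIntegral_of_irreducibleSpace_of_isReduced A.left
  haveI : GeometricallyIntegral G.hom := H23.EquidimFibres.geometricallyIntegral_of_isAlgClosed
  haveI : GeometricallyIntegral A.hom := H23.EquidimFibres.geometricallyIntegral_of_isAlgClosed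
  haveI : IsCommMonObj A := isCommMonObj_of_isProper_of_geometricallyIntegral A
  haveI : Mono i := by
    have : Mono i.left := inferInstance
    exact Over.mono_of_mono_left i
  have hN : AlgGrp.IsNormalHom i := fun T g a => ⟨a, by rw [← central i a g, mul_inv_cancel_right]⟩
  obtain ⟨X, _, q, _, hqs, hqf, hql, hXl, hXq, hXsep, -, sq⟩ := GrpSchLib.GenQuot.exists_quot i hN
  haveI : Smooth q.left := MorphismProperty.of_isPullback_of_descendsAlong
    (Q := @Surjective ⊓ @Flat ⊓ @LocallyOfFinitePresentation) (sq.flip.map (Over.forget _))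
    ⟨⟨hqs, hqf⟩, hql⟩ (MorphismProperty.pullback_fst (P := @Smooth) G.hom A.hom ‹_›)
  have hinv : ∀ {T : Over (Spec (CommRingCat.of k))} (g : T ⟶ G) (a : T ⟶ A), (g * (a ≫ i)) ≫ q = g ≫ q :=
    fun g a => comp_quot i q sq.w g a
  -- the generic point and its separable closure
  let F := G.left.functionField
  let Ω := SeparableClosure F
  let T : Over (Spec (CommRingCat.of k)) :=
    Over.mk (Spec.map (CommRingCat.ofHom (algebraMap F Ω)) ≫ (gen G).hom)
  let ρ : T ⟶ gen G := Over.homMk (Spec.map (CommRingCat.ofHom (algebraMap F Ω))) rfl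
  let g₀ : T ⟶ G := ρ ≫ fromO G (genericPoint G.left)
  obtain ⟨η₀, kη, hη⟩ : ∃ (η₀ : X.left) (kη : X.left.residueField η₀ ⟶ CommRingCat.of Ω),
      (g₀ ≫ q).left = Spec.map kη ≫ X.left.fromSpecResidueField η₀ :=
    ⟨_, _, ((Scheme.SpecToEquivOfField Ω X.left).symm_apply_apply _).symm⟩
  letI : Algebra (X.left.residueField η₀) Ω := kη.hom.toAlgebra
  let M := separableClosure (X.left.residueField η₀) Ω
  haveI : IsSepClosed M := IsSepClosure.sep_closed (X.left.residueField η₀)
  let k₀ : X.left.residueField η₀ ⟶ CommRingCat.of M := CommRingCat.ofHom (algebraMap (X.left.residueField η₀) M)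
  let β := Spec.map k₀ ≫ X.left.fromSpecResidueField η₀
  obtain ⟨z, -, -⟩ : ∃ z : ↥(pullback q.left β), pullback.fst q.left β z = g₀.left (closedPoint Ω) ∧
      pullback.snd q.left β z = closedPoint M := Scheme.Pullback.exists_preimage_pullback _ _ (by
    show (g₀ ≫ q).left (closedPoint Ω) = _
    rw [hη]
    simp only [β, Scheme.Hom.comp_apply, Scheme.fromSpecResidueField_apply])
  obtain ⟨s, hs, -⟩ := GrpSchLib.exists_point_of_smooth (pullback.snd q.left β) ⊤ (x := z) trivial
  let P₀ : Spec (CommRingCat.of M) ⟶ G.left := s ≫ pullback.fst q.left β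
  have hP₀ : P₀ ≫ q.left = β := by
    simp only [P₀, Category.assoc, pullback.condition]
    rw [reassoc_of% hs]
  let S : Set (T ⟶ G) := {P | P ≫ q = g₀ ≫ q ∧ P.left (closedPoint Ω) = P₀ (closedPoint M)}
  have hSfin : S.Finite := by
    refine Set.Finite.of_finite_image ((finite_lifts q.left k₀ (separableClosure.isSeparable (X.left.residueField η₀) Ω).isAlgebraic P₀ hP₀
      (g₀ ≫ q).left).subset ?_) fun P _ P' _ e => Over.OverMorphism.ext e
    rintro _ ⟨P, ⟨h1, h2⟩, rfl⟩
    exact ⟨congrArg CommaMorphism.left h1, h2⟩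
  let incl : CommRingCat.of M ⟶ CommRingCat.of Ω := CommRingCat.ofHom (algebraMap M Ω)
  have hP₁ : (Spec.map incl ≫ P₀) ≫ q.left = (g₀ ≫ q).left := by
    rw [Category.assoc, hP₀, hη, ← Spec.map_comp_assoc]
    congr 2
  let P₁ : T ⟶ G := Over.homMk (Spec.map incl ≫ P₀) (by
    rw [← Over.w q, ← Category.assoc, hP₁, Over.w (g₀ ≫ q)])
  have hP₁S : P₁ ∈ S := ⟨Over.OverMorphism.ext hP₁, by
    show P₀ (Spec.map incl (closedPoint Ω)) = _
    rw [Subsingleton.elim (α := Spec (CommRingCat.of M)) (Spec.map incl (closedPoint Ω)) (closedPoint M)]⟩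
  -- differences
  have hdiff : ∀ P ∈ S, ∃ a : T ⟶ A, g₀ = P * (a ≫ i) := fun P hP => by
    refine ⟨sq.lift g₀ P hP.1.symm ≫ snd G A, ?_⟩
    have e := GrpSchLib.GenQuot.comp_act (h := i) (r := sq.lift g₀ P hP.1.symm)
    rwa [sq.lift_fst, sq.lift_snd, ← Category.assoc] at e
  choose! δ hδ using hdiff
  have hδu : ∀ P ∈ S, ∀ a : T ⟶ A, g₀ = P * (a ≫ i) → δ P = a := fun P hP a ha =>
    (cancel_mono i).1 (mul_left_cancel ((hδ P hP).symm.trans ha))
  let d : T ⟶ A := ∏ P ∈ hSfin.toFinset, δ P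
  let n := hSfin.toFinset.card
  have hn : 0 < n := Finset.card_pos.2 ⟨P₁, hSfin.mem_toFinset.2 hP₁S⟩
  have hdom : ∀ {L L' : Type u} [Field L] [Field L'] (σ : CommRingCat.of L ⟶ CommRingCat.of L'),
      IsDominant (Spec.map σ) := fun σ => by
    haveI : Surjective (Spec.map σ) := ⟨Function.surjective_to_subsingleton (α := Spec (CommRingCat.of _)) _⟩
    infer_instance
  haveI : IsReduced T.left := inferInstanceAs (IsReduced (Spec (CommRingCat.of Ω)))
  have key : ∀ (σ : Ω →+* Ω) (hσ : Spec.map (CommRingCat.ofHom σ) ≫ T.hom = T.hom) (c : T ⟶ A),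
      (Over.homMk (Spec.map (CommRingCat.ofHom σ)) hσ : T ⟶ T) ≫ g₀ = g₀ * (c ≫ i) →
      (Over.homMk (Spec.map (CommRingCat.ofHom σ)) hσ : T ⟶ T) ≫ d = d * c ^ n := by
    intro σ hσ c hc
    set τ : T ⟶ T := Over.homMk (Spec.map (CommRingCat.ofHom σ)) hσ
    haveI : IsDominant τ.left := hdom (CommRingCat.ofHom σ)
    have hmem : ∀ P ∈ hSfin.toFinset, τ ≫ P ∈ hSfin.toFinset := fun P hP => by
      rw [Set.Finite.mem_toFinset] at hP ⊢
      refine ⟨by rw [Category.assoc, hP.1, ← Category.assoc, hc, hinv], ?_⟩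
      rw [← hP.2, Over.comp_left, Scheme.Hom.comp_apply]
      exact congrArg P.left (Subsingleton.elim (α := Spec (CommRingCat.of Ω)) _ _)
    have hinj : Set.InjOn (τ ≫ ·) (hSfin.toFinset : Set (T ⟶ G)) := fun P _ P' _ e =>
      Over.OverMorphism.ext (ext_of_isDominant_of_isSeparated G.hom (by rw [Over.w, Over.w]) τ.left
        (congrArg CommaMorphism.left e))
    have hδτ : ∀ P ∈ hSfin.toFinset, τ ≫ δ P = δ (τ ≫ P) * c := fun P hP => by
      have h1 : g₀ = (τ ≫ P) * (((τ ≫ δ P) * c⁻¹) ≫ i) := by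
        rw [MonObj.mul_comp, GrpObj.inv_comp, ← _root_.mul_assoc, eq_mul_inv_iff_mul_eq, ← hc,
          Category.assoc, ← MonObj.comp_mul, ← hδ P (hSfin.mem_toFinset.1 hP)]
      rw [hδu _ (hSfin.mem_toFinset.1 (hmem P hP)) _ h1, inv_mul_cancel_right]
    let τm : (T ⟶ A) →* (T ⟶ A) :=
      { toFun := fun x => τ ≫ x, map_one' := MonObj.comp_one τ, map_mul' := fun x y => MonObj.comp_mul τ x y }
    show τm d = _
    rw [map_prod]
    show ∏ P ∈ hSfin.toFinset, τ ≫ δ P = _
    rw [Finset.prod_congr rfl hδτ, Finset.prod_mul_distrib, Finset.prod_const]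
    congr 1
    rw [← Finset.prod_image (f := δ) hinj]
    congr 1
    exact Finset.eq_of_subset_of_card_le (fun y hy => by
      obtain ⟨P, hP, rfl⟩ := Finset.mem_image.1 hy
      exact hmem P hP) (Finset.card_image_of_injOn hinj).ge
  -- descent to the function field
  obtain ⟨φl, hφl⟩ := exists_descent (F := F) (L := Ω) d.left fun σ => by
    have hσ : Spec.map (CommRingCat.ofHom (σ : Ω →+* Ω)) ≫ T.hom = T.hom := by
      show _ ≫ Spec.map _ ≫ _ = Spec.map _ ≫ _
      rw [← Spec.map_comp_assoc]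
      congr 2
      exact CommRingCat.hom_ext (RingHom.ext σ.commutes)
    have hρ : (Over.homMk (Spec.map (CommRingCat.ofHom (σ : Ω →+* Ω))) hσ : T ⟶ T) ≫ ρ = ρ := by
      ext1
      show Spec.map _ ≫ Spec.map _ = Spec.map _
      rw [← Spec.map_comp]
      congr 1
      exact CommRingCat.hom_ext (RingHom.ext σ.commutes)
    have h1 := key _ hσ 1 (by rw [MonObj.one_comp, _root_.mul_one]; exact (Category.assoc _ _ _).symm.trans (congrArg (· ≫ fromO G _) hρ))
    rw [one_pow, _root_.mul_one] at h1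
    exact congrArg CommaMorphism.left h1
  haveI : IsDominant ρ.left := hdom (CommRingCat.ofHom (algebraMap F Ω))
  haveI : IsReduced (gen G).left := inferInstanceAs (IsReduced (Spec (CommRingCat.of F)))
  let φ : gen G ⟶ A := Over.homMk φl (by
    refine ext_of_isDominant ρ.left ?_
    show Spec.map _ ≫ φl ≫ A.hom = _
    rw [reassoc_of% hφl, Over.w d]
    rfl)
  have hφ : ρ ≫ φ = d := Over.OverMorphism.ext hφl
  -- extension
  haveI : IsIntegral (G ⊗ G).left := H23.RatExt.isIntegral_sq
  haveI : A.left.IsSeparated := ⟨by rw [← terminal.comp_from A.hom]; exact inferInstance⟩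
  obtain ⟨V, hgV, H, hTV, hH, hH₀⟩ := H23.RatExtend.extend G.hom A.hom φ.left (Over.w φ) Set.univ fun y _ => by
    obtain ⟨χ, hχ⟩ := H23.RatExt.defAt_of_isProper φ y
    exact ⟨χ.left, Over.w χ, congrArg CommaMorphism.left hχ⟩
  obtain rfl : V = ⊤ := top_unique fun y _ => hTV (Set.mem_univ y)
  let f₁ : G ⟶ A := Over.homMk (G.left.topIso.inv ≫ H)
    (by rw [Category.assoc, hH]; exact G.left.topIso.inv_hom_id_assoc G.hom)
  have hf₁ : fromO G (genericPoint G.left) ≫ f₁ = φ := by
    ext1
    show G.left.fromSpecStalk _ ≫ G.left.topIso.inv ≫ H = φ.left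
    rw [← hH₀, ← Category.assoc]
    congr 1
    rw [← cancel_mono (⊤ : G.left.Opens).ι, Category.assoc, Scheme.Opens.fromSpecStalkOfMem_ι]
    exact (congrArg (_ ≫ ·) G.left.topIso.inv_hom_id).trans (Category.comp_id _)
  let f : G ⟶ A := f₁ * (toUnit G ≫ η[G] ≫ f₁)⁻¹
  have hf : η[G] ≫ f = η[A] := by
    simp only [f, MonObj.comp_mul, GrpObj.comp_inv, ← Category.assoc, comp_toUnit,
      toUnit_unique (toUnit PT) (𝟙 PT), Category.id_comp, mul_inv_cancel]
    exact (MonObj.one_eq_one (M := A)).symm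
  refine ⟨f, S11994.result k G A f hf, n, hn, hom_ext_of_points fun a => ?_⟩
  let h : PT ⟶ G := a ≫ i
  obtain ⟨σ, hσ⟩ := exists_ext (L := Ω) ((algebraMap F Ω).comp (hm (tr h)).hom)
  have hτ' : Spec.map (CommRingCat.ofHom σ) ≫ ρ.left = ρ.left ≫ (tr h).left := by
    show Spec.map _ ≫ Spec.map _ = Spec.map _ ≫ _
    rw [← map_hm, ← Spec.map_comp, ← Spec.map_comp]
    congr 1
    exact CommRingCat.hom_ext hσ
  have hτw : Spec.map (CommRingCat.ofHom σ) ≫ T.hom = T.hom := by
    show Spec.map _ ≫ ρ.left ≫ (gen G).hom = ρ.left ≫ (gen G).hom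
    rw [reassoc_of% hτ', Over.w (tr h)]
  let τ : T ⟶ T := Over.homMk (Spec.map (CommRingCat.ofHom σ)) hτw
  have hτ : τ ≫ ρ = ρ ≫ tr h := Over.OverMorphism.ext hτ'
  have hd : τ ≫ d = d * (toUnit T ≫ a) ^ n := by
    refine key σ hτw (toUnit T ≫ a) ?_
    show τ ≫ ρ ≫ fromO G _ = _
    rw [reassoc_of% hτ, tr_spec, MonObj.comp_mul, ← Category.assoc, comp_toUnit, ← central i (toUnit T ≫ a) g₀,
      Category.assoc]
  have h1 : tr h ≫ φ = φ * (toUnit (gen G) ≫ a) ^ n := by
    ext1
    refine ext_of_isDominant ρ.left ?_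
    refine congrArg CommaMorphism.left (?_ : ρ ≫ tr h ≫ φ = ρ ≫ (φ * _))
    rw [← reassoc_of% hτ, hφ, hd, MonObj.comp_mul, MonObj.comp_pow, hφ, ← Category.assoc, comp_toUnit]
  let L : G ⟶ G := (toUnit G ≫ h) * 𝟙 G
  have h2 : L ≫ f₁ = f₁ * (toUnit G ≫ a) ^ n := by
    haveI : IsDominant (fromO G (genericPoint G.left)).left := by
      refine ⟨?_⟩
      refine Dense.mono ?_ (dense_iff_closure_eq.2 (genericPoint_spec G.left) :
        Dense ({genericPoint G.left} : Set G.left))
      rintro _ rfl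
      exact ⟨spt G _, fromO_spt _⟩
    ext1
    refine ext_of_isDominant (fromO G (genericPoint G.left)).left ?_
    refine congrArg CommaMorphism.left (?_ : fromO G _ ≫ L ≫ f₁ = fromO G _ ≫ (_ * _))
    rw [MonObj.comp_mul (fromO G _), MonObj.comp_pow, hf₁, ← Category.assoc (fromO G _) (toUnit G), comp_toUnit,
      ← h1, ← hf₁, ← Category.assoc, ← Category.assoc, tr_spec]
    congr 1
    simp only [L, MonObj.comp_mul, Category.comp_id]
    rw [← Category.assoc, comp_toUnit]
  have h3 : h ≫ f₁ = (η[G] ≫ f₁) * a ^ n := by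
    have := congrArg (η[G] ≫ ·) h2
    simp only [L, MonObj.comp_mul, MonObj.comp_pow, Category.comp_id, ← Category.assoc, comp_toUnit,
      toUnit_unique (toUnit PT) (𝟙 PT), Category.id_comp] at this
    rw [← this]
    congr 1
    rw [MonObj.one_eq_one, _root_.mul_one]
  rw [MonObj.comp_pow, Category.comp_id, ← Category.assoc]
  show h ≫ f = _
  simp only [f, MonObj.comp_mul, GrpObj.comp_inv, ← Category.assoc, comp_toUnit,
      toUnit_unique (toUnit PT) (𝟙 PT), Category.id_comp, h3, mul_inv_cancel_comm]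

end Groth.Agent.AGFLib.QuasiComp
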