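import Groth.Agent.GrpSchLib.ImageFactor
import Mathlib.AlgebraicGeometry.AlgClosed.Basic

/-! Lifting geometric points along surjective morphisms, pullback squares from lifting properties. -/

set_option backward.isDefEq.respectTransparency false
set_option backward.isDefEq.respectTransparency.types false
set_option linter.style.haveILetI false

universe u

open CategoryTheory Limits AlgebraicGeometry MonoidalCategory CartesianMonoidalCategory

namespace Groth.Agent.AGFLib.QuasiComp

/-- Geometric points lift along surjective morphisms locally of finite type. -/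
theorem exists_geomPt_lift {k K : Type u} [Field k] [Field K] [Algebra k K] [IsAlgClosed K]
    {G' G : Over (Spec (CommRingCat.of k))} [LocallyOfFiniteType G'.hom] (f : G' ⟶ G) [Surjective f.left]
    (x : Over.mk (Spec.map (CommRingCat.ofHom (algebraMap k K))) ⟶ G) :
    ∃ z : Over.mk (Spec.map (CommRingCat.ofHom (algebraMap k K))) ⟶ G', z ≫ f = x := by
  let a : Spec (CommRingCat.of K) ⟶ G.left := x.left
  haveI : LocallyOfFiniteType f.left := by
    haveI : LocallyOfFiniteType (f.left ≫ G.hom) := by rw [Over.w f]; infer_instance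
    exact locallyOfFiniteType_of_comp f.left G.hom
  let π := pullback.fst a f.left
  obtain ⟨w, -⟩ := π.surjective (IsLocalRing.closedPoint K)
  haveI : JacobsonSpace ↥(pullback a f.left) := LocallyOfFiniteType.jacobsonSpace π
  obtain ⟨c, -, hc⟩ := nonempty_inter_closedPoints (Z := (Set.univ : Set ↥(pullback a f.left)))
    ⟨w, trivial⟩ isClosed_univ.isLocallyClosed
  let s := pointOfClosedPoint π c hc
  have hs : s ≫ π = 𝟙 _ := pointOfClosedPoint_comp π c hc
  have hw : (s ≫ pullback.snd a f.left) ≫ f.left = a := by
    rw [Category.assoc, ← pullback.condition, ← Category.assoc, hs, Category.id_comp]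
  refine ⟨Over.homMk (s ≫ pullback.snd a f.left) ?_, Over.OverMorphism.ext hw⟩
  show (s ≫ pullback.snd a f.left) ≫ G'.hom = _
  rw [← Over.w f, ← Category.assoc, hw]
  exact Over.w x

/-- A commutative square whose first projection is a monomorphism is cartesian when lifts exist. -/
theorem isPullback_of_mono {C : Type*} [Category C] {P X Y Z : C} {a : P ⟶ X} {b : P ⟶ Y} {f : X ⟶ Z} {g : Y ⟶ Z}
    [Mono a] [Mono g] (w : a ≫ f = b ≫ g)
    (h : ∀ {T : C} (x : T ⟶ X) (y : T ⟶ Y), x ≫ f = y ≫ g → ∃ l : T ⟶ P, l ≫ a = x) :
    IsPullback a b f g := by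
  choose l hl using fun s : PullbackCone f g => h s.fst s.snd s.condition
  refine ⟨⟨w⟩, ⟨PullbackCone.IsLimit.mk w l hl (fun s => ?_) fun s m hm _ => by rw [← cancel_mono a, hm, hl]⟩⟩
  rw [← cancel_mono g, Category.assoc, ← w, ← Category.assoc, hl, s.condition]

end Groth.Agent.AGFLib.QuasiComp
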