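import Groth.Agent.FlatMisc.NoethFibres
import Mathlib.FieldTheory.IntermediateField.Adjoin.Algebra
import Mathlib.FieldTheory.SeparableClosure
import Mathlib.FieldTheory.Galois.Infinite
import Mathlib.AlgebraicGeometry.ResidueField

/-! Finiteness and descent of field valued points. -/

set_option backward.isDefEq.respectTransparency false
set_option backward.isDefEq.respectTransparency.types false
set_option linter.style.haveILetI false

universe u

open CategoryTheory Limits AlgebraicGeometry IsLocalRing

namespace Groth.Agent.AGFLib.QuasiComp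

/-- An algebraic extension of fields which is essentially of finite type is finite. -/
theorem finite_of_essFiniteType (K E : Type*) [Field K] [Field E] [Algebra K E] [Algebra.EssFiniteType K E]
    [Algebra.IsAlgebraic K E] : FiniteDimensional K E := by
  obtain ⟨s, hs⟩ := (IntermediateField.fg_top_iff (F := K) (E := E)).2 ‹_›
  have := IntermediateField.finiteDimensional_adjoin (K := K) (S := (s : Set E))
    fun x _ => (Algebra.IsAlgebraic.isAlgebraic x).isIntegral
  rw [hs] at this
  exact Module.Finite.equiv (IntermediateField.topEquiv (F := K) (E := E)).toLinearEquiv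

/-- There are finitely many lifts, through a given point, of a point with values in a field, if this point has
an algebraic residue field. -/
theorem finite_lifts {G X : Scheme.{u}} (q : G ⟶ X) [LocallyOfFiniteType q] {η : X} {M : Type u} [Field M]
    (k₀ : X.residueField η ⟶ CommRingCat.of M)
    (hk₀ : letI := k₀.hom.toAlgebra; Algebra.IsAlgebraic (X.residueField η) M)
    (P₀ : Spec (CommRingCat.of M) ⟶ G) (h₀ : P₀ ≫ q = Spec.map k₀ ≫ X.fromSpecResidueField η)
    {L : Type u} [Field L] (b : Spec (CommRingCat.of L) ⟶ X) :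
    {P : Spec (CommRingCat.of L) ⟶ G | P ≫ q = b ∧ P (closedPoint L) = P₀ (closedPoint M)}.Finite := by
  obtain ⟨⟨x, φ₀⟩, rfl⟩ := (Scheme.SpecToEquivOfField M G).symm.surjective P₀
  simp only [Scheme.SpecToEquivOfField, Equiv.coe_fn_symm_mk] at h₀ ⊢
  rw [Category.assoc, ← Scheme.Hom.SpecMap_residueFieldMap_fromSpecResidueField, ← Spec.map_comp_assoc] at h₀
  have he : q x = η := by
    have := congrArg (fun f : Spec (CommRingCat.of M) ⟶ X => f (closedPoint M)) h₀
    simpa only [Scheme.Hom.comp_apply, Scheme.fromSpecResidueField_apply] using this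
  subst he
  obtain rfl : q.residueFieldMap x ≫ φ₀ = k₀ := Spec.map_injective ((cancel_mono _).1 h₀)
  letI : Algebra (X.residueField (q x)) (G.residueField x) := (q.residueFieldMap x).hom.toAlgebra
  letI : Algebra (X.residueField (q x)) M := (q.residueFieldMap x ≫ φ₀).hom.toAlgebra
  haveI : Algebra.EssFiniteType (X.residueField (q x)) (G.residueField x) :=
    NoethFibres.essFiniteType_residueFieldMap q x
  haveI : Algebra.IsAlgebraic (X.residueField (q x)) M := hk₀
  haveI : Algebra.IsAlgebraic (X.residueField (q x)) (G.residueField x) :=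
    ⟨fun z => (isAlgebraic_algHom_iff (R := X.residueField (q x)) ({ φ₀.hom with commutes' := fun _ => rfl } :
      G.residueField x →ₐ[X.residueField (q x)] M) φ₀.hom.injective).1 (Algebra.IsAlgebraic.isAlgebraic _)⟩
  haveI := finite_of_essFiniteType (X.residueField (q x)) (G.residueField x)
  rcases Set.eq_empty_or_nonempty {P : Spec (CommRingCat.of L) ⟶ G | P ≫ q = b ∧
    P (closedPoint L) = (Spec.map φ₀ ≫ G.fromSpecResidueField x) (closedPoint M)} with h | ⟨P₁, hP₁, hx₁⟩
  · rw [h]; exact Set.finite_empty
  obtain ⟨⟨x₁, φ₁⟩, rfl⟩ := (Scheme.SpecToEquivOfField L G).symm.surjective P₁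
  simp only [Scheme.SpecToEquivOfField, Equiv.coe_fn_symm_mk, Scheme.Hom.comp_apply,
    Scheme.fromSpecResidueField_apply] at hP₁ hx₁ ⊢
  subst hx₁
  letI : Algebra (X.residueField (q x₁)) L := (q.residueFieldMap x₁ ≫ φ₁).hom.toAlgebra
  refine (Set.finite_range fun φ : G.residueField x₁ →ₐ[X.residueField (q x₁)] L =>
    Spec.map (CommRingCat.ofHom φ.toRingHom) ≫ G.fromSpecResidueField x₁).subset ?_
  rintro P ⟨hP, hPx⟩
  obtain ⟨⟨x', φ⟩, rfl⟩ := (Scheme.SpecToEquivOfField L G).symm.surjective P
  simp only [Scheme.SpecToEquivOfField, Equiv.coe_fn_symm_mk, Scheme.Hom.comp_apply,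
    Scheme.fromSpecResidueField_apply] at hP hPx ⊢
  subst hPx
  rw [← hP₁, Category.assoc, Category.assoc, ← Scheme.Hom.SpecMap_residueFieldMap_fromSpecResidueField,
    ← Spec.map_comp_assoc, ← Spec.map_comp_assoc] at hP
  have e := Spec.map_injective ((cancel_mono _).1 hP)
  exact ⟨{ φ.hom with commutes' := fun z => congrArg (fun f => f.hom z) e }, rfl⟩

/-- A point invariant under all automorphisms of a Galois extension is defined over the ground field. -/
theorem exists_descent {Z : Scheme.{u}} {F L : Type u} [Field F] [Field L] [Algebra F L] [IsGalois F L]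
    (d : Spec (CommRingCat.of L) ⟶ Z)
    (hd : ∀ σ : L ≃ₐ[F] L, Spec.map (CommRingCat.ofHom (σ : L →+* L)) ≫ d = d) :
    ∃ φ : Spec (CommRingCat.of F) ⟶ Z, Spec.map (CommRingCat.ofHom (algebraMap F L)) ≫ φ = d := by
  obtain ⟨⟨z, ψ⟩, rfl⟩ := (Scheme.SpecToEquivOfField L Z).symm.surjective d
  simp only [Scheme.SpecToEquivOfField, Equiv.coe_fn_symm_mk] at hd ⊢
  have hfix : ∀ a, ψ.hom a ∈ Set.range (algebraMap F L) := fun a =>
    (InfiniteGalois.mem_range_algebraMap_iff_fixed _).2 fun σ => by
      have := hd σ
      rw [← Spec.map_comp_assoc] at this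
      exact congrArg (fun f => f.hom a) (Spec.map_injective ((cancel_mono _).1 this))
  choose ψ' hψ' using hfix
  let ψ'' : Z.residueField z →+* F :=
    { toFun := ψ'
      map_one' := (algebraMap F L).injective (by rw [hψ', map_one, map_one])
      map_mul' := fun a b => (algebraMap F L).injective (by rw [hψ', map_mul, map_mul, hψ', hψ'])
      map_zero' := (algebraMap F L).injective (by rw [hψ', map_zero, map_zero])
      map_add' := fun a b => (algebraMap F L).injective (by rw [hψ', map_add, map_add, hψ', hψ']) }
  refine ⟨Spec.map (CommRingCat.ofHom ψ'') ≫ Z.fromSpecResidueField z, ?_⟩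
  rw [← Spec.map_comp_assoc]
  congr 2
  exact CommRingCat.hom_ext (RingHom.ext hψ')

end Groth.Agent.AGFLib.QuasiComp
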